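import Groth.Agent.GrpdGen.Quotient
import Groth.Agent.AlgSpDec.ActGroupoid
import Groth.Agent.AlgStLib.MonoQuotGraph
import Groth.Agent.EtFound.DescentQF

/-!
# Actions with quasi-finite stabilizers
-/

set_option autoImplicit false
set_option backward.isDefEq.respectTransparency false
set_option backward.isDefEq.respectTransparency.types false
set_option linter.style.haveILetI false
set_option linter.unusedSectionVars false

universe u

open AlgebraicGeometry CategoryTheory CategoryTheory.Limits MonoidalCategory CartesianMonoidalCategory MonObj Grpd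

namespace Groth.Agent.GrpdGen

/-- A morphism is quasi-finite if its self fibre product is. -/
theorem lqf_of_lqf_snd_self {X Y : Scheme.{u}} (f : X ⟶ Y) [LocallyOfFiniteType f]
    (h : LocallyQuasiFinite (pullback.snd f f)) : LocallyQuasiFinite f := by
  refine LocallyQuasiFinite.of_fiberToSpecResidueField f fun y => ?_
  rcases isEmpty_or_nonempty ↥(f.fiber y) with he | ⟨⟨a⟩⟩
  · infer_instance
  obtain ⟨r, rfl⟩ : ∃ r, f r = y := ⟨f.fiberι y a, by
    have : f.fiberι y a ∈ Set.range (f.fiberι y) := ⟨a, rfl⟩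
    rwa [Scheme.Hom.range_fiberι] at this⟩
  let k := Spec.map (f.residueFieldMap r)
  haveI : Flat k := by
    refine (HasRingHomProperty.Spec_iff (P := @Flat)).2 ?_
    letI := (f.residueFieldMap r).hom.toAlgebra
    exact RingHom.flat_algebraMap_iff.2 (inferInstance : Module.Flat (Y.residueField (f r)) (X.residueField r))
  haveI : Surjective k := ⟨fun z => ⟨IsLocalRing.closedPoint _, Subsingleton.elim _ _⟩⟩
  haveI := EtFound.fpqc_locallyQuasiFinite
  refine MorphismProperty.of_pullback_snd_of_descendsAlong (g := k)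
    (Q := (@Surjective ⊓ @Flat ⊓ @QuasiCompact : MorphismProperty Scheme.{u}))
    ⟨⟨inferInstance, inferInstance⟩, inferInstance⟩ ?_
  show LocallyQuasiFinite (pullback.snd (pullback.snd f (Y.fromSpecResidueField (f r))) k)
  rw [← pullbackLeftPullbackSndIso_hom_snd, MorphismProperty.cancel_left_of_respectsIso @LocallyQuasiFinite]
  have e : k ≫ Y.fromSpecResidueField (f r) = X.fromSpecResidueField r ≫ f :=
    f.SpecMap_residueFieldMap_fromSpecResidueField r
  have key : ∀ (v : Spec (X.residueField r) ⟶ Y), X.fromSpecResidueField r ≫ f = v →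
      LocallyQuasiFinite (pullback.snd f v) := ?_
  · exact key _ e.symm
  rintro v rfl
  haveI : LocallyQuasiFinite (pullback.snd (pullback.snd f f) (X.fromSpecResidueField r)) :=
    MorphismProperty.pullback_snd (P := @LocallyQuasiFinite) _ _ h
  rwa [← pullbackLeftPullbackSndIso_hom_snd f f (X.fromSpecResidueField r),
    MorphismProperty.cancel_left_of_respectsIso @LocallyQuasiFinite] at this

variable {S : Scheme.{u}} {G X : Over S} [GrpObj G] (a : AlgGrp.Action G X)

theorem lqf_graph [LocallyOfFiniteType (AlgStLib.MonoFactor.graph a).left]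
    (hF : LocallyQuasiFinite (pullback.snd (AlgStLib.MonoFactor.graph a) (lift (𝟙 X) (𝟙 X))).left) :
    LocallyQuasiFinite (AlgStLib.MonoFactor.graph a).left := by
  refine lqf_of_lqf_snd_self _ ?_
  let x := pullback.snd (AlgStLib.MonoFactor.graph a) (lift (𝟙 X) (𝟙 X))
  have hw : LocallyQuasiFinite (G ◁ x).left := by
    refine MorphismProperty.of_isPullback (P := @LocallyQuasiFinite) (g := x.left) (f' := (snd G _).left)
      (f := (snd G X).left) ?_ hF
    refine (IsPullback.of_right (v₁₁ := (snd G _).left) (v₁₂ := (snd G X).left)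
      (h₁₁ := (G ◁ x).left) (h₂₁ := x.left) (h₁₂ := (fst G X).left) (h₂₂ := X.hom) ?_ ?_
      (IsPullback.of_hasPullback G.hom X.hom)).flip
    · rw [Over.w x, ← Over.comp_left, whiskerLeft_fst]
      exact IsPullback.of_hasPullback G.hom _
    · rw [← Over.comp_left, ← Over.comp_left, whiskerLeft_snd]
  have sq : IsPullback _ (G ◁ x).left (AlgStLib.MonoFactor.graph a).left (AlgStLib.MonoFactor.graph a).left :=
    (AlgStLib.MonoFactor.isPullback_graph a).map (Over.forget S)
  rw [← MorphismProperty.cancel_left_of_respectsIso (P := @LocallyQuasiFinite) sq.isoPullback.hom,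
    IsPullback.isoPullback_hom_snd]
  exact hw

theorem j_gpd : (AlgSpDec.ActGroupoid.gpd a).j = (AlgStLib.MonoFactor.graph a).left := by
  apply pullback.hom_ext
  · exact (pullback.lift_fst _ _ _).trans (congrArg CommaMorphism.left (lift_fst a.act (snd G X))).symm
  · exact (pullback.lift_snd _ _ _).trans (congrArg CommaMorphism.left (lift_snd a.act (snd G X))).symm

theorem exists_action_quotient [IsNoetherian S]
    [Flat G.hom] [LocallyOfFiniteType G.hom] [QuasiCompact G.hom] [LocallyOfFiniteType X.hom] [QuasiCompact X.hom]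
    (hF : LocallyQuasiFinite (pullback.snd (lift a.act (snd G X)) (lift (𝟙 X) (𝟙 X))).left) :
    ∃ (U : X.left.Opens) (hU : a.act.left ⁻¹ᵁ U = (snd G X).left ⁻¹ᵁ U), Dense (U : Set X.left) ∧
      ∃ (V : Scheme.{u}) (p : (U : Scheme.{u}) ⟶ V)
        (w : a.act.left.resLE U ((snd G X).left ⁻¹ᵁ U) hU.ge ≫ p = ((snd G X).left ∣_ U) ≫ p) (q : V ⟶ S),
        Nonempty (IsColimit (Cofork.ofπ p w)) ∧ p ≫ q = U.ι ≫ X.hom ∧
        Surjective p ∧ IsOpenMap p.base ∧ LocallyOfFinitePresentation p ∧
        LocallyOfFinitePresentation q ∧ QuasiCompact q ∧ QuasiSeparated q ∧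
        Function.Surjective (pullback.lift (a.act.left.resLE U ((snd G X).left ⁻¹ᵁ U) hU.ge) ((snd G X).left ∣_ U) w).base ∧
        (Mono (lift a.act (snd G X)) →
          IsPullback (a.act.left.resLE U ((snd G X).left ⁻¹ᵁ U) hU.ge) ((snd G X).left ∣_ U) p p ∧ Flat p) := by
  let D := AlgSpDec.ActGroupoid.gpd a
  obtain ⟨-, ⟨⟨⟨hs1, hs2⟩, hs3⟩, -⟩⟩ := AlgStLib.MonoFactor.act_props a
  obtain ⟨⟨⟨⟨-, ha2⟩, -⟩, -⟩, -⟩ := AlgStLib.MonoFactor.act_props a
  haveI : Flat D.s := hs1
  haveI := hs2
  haveI : LocallyOfFinitePresentation D.s := hs2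
  haveI : QuasiCompact D.s := hs3
  haveI : LocallyOfFiniteType D.pU := ‹LocallyOfFiniteType X.hom›
  haveI : QuasiCompact D.pU := ‹QuasiCompact X.hom›
  haveI : LocallyOfFiniteType (AlgStLib.MonoFactor.graph a).left := by
    haveI : LocallyOfFiniteType ((AlgStLib.MonoFactor.graph a).left ≫ (fst X X).left) := by
      rw [← Over.comp_left, lift_fst]
      haveI := ha2
      infer_instance
    exact locallyOfFiniteType_of_comp _ (fst X X).left
  haveI : LocallyQuasiFinite D.j := by rw [j_gpd]; exact lqf_graph a hF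
  obtain ⟨W, hW, hd, V, p, w, q, h1, h2, h3, h4, h5, h6, h7, h8, h9, h10⟩ := exists_dense_quotient D
  refine ⟨W, hW, hd, V, p, w, q, h1, h2, h3, h4, h5, h6, h7, h8, h9, fun hm => h10 ?_⟩
  rw [j_gpd]
  exact inferInstanceAs (Mono ((Over.forget S).map (AlgStLib.MonoFactor.graph a)))

end Groth.Agent.GrpdGen
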