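import Groth.Agent.GrpdGen.Reduced
import Groth.Agent.GrpdGen.ActionQF

/-!
# Generic quotients of actions with flat stabilizer or reduced space
-/

set_option autoImplicit false
set_option backward.isDefEq.respectTransparency false
set_option backward.isDefEq.respectTransparency.types false
set_option linter.style.haveILetI false
set_option linter.unusedSectionVars false

universe u

open AlgebraicGeometry CategoryTheory CategoryTheory.Limits Grpd TopologicalSpace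

namespace Groth.Agent.GrpdGen

theorem exists_quotient_of_flat_stab_or_reduced {S : Scheme.{u}} [IsNoetherian S] (G : GroupoidScheme S)
    [Flat G.s] [LocallyOfFiniteType G.s] [QuasiCompact G.s] [LocallyOfFiniteType G.pU] [QuasiCompact G.pU]
    (h : Flat G.stabilizerToU ∨ IsReduced G.U) :
    ∃ (W : G.U.Opens) (hW : G.t ⁻¹ᵁ W = G.s ⁻¹ᵁ W), Dense (W : Set G.U) ∧
      ∃ (V : Scheme.{u}) (p : (W : Scheme.{u}) ⟶ V)
        (w : G.t.resLE W (G.s ⁻¹ᵁ W) hW.ge ≫ p = (G.s ∣_ W) ≫ p) (q : V ⟶ S),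
        Nonempty (IsColimit (Cofork.ofπ p w)) ∧ p ≫ q = W.ι ≫ G.pU ∧
        Surjective p ∧ Flat p ∧ LocallyOfFinitePresentation p ∧ LocallyOfFiniteType q ∧ QuasiCompact q := by
  rcases h with h | h
  · exact exists_quotient_of_flat_stab G
  haveI : IsLocallyNoetherian G.U := LocallyOfFiniteType.isLocallyNoetherian G.pU
  haveI : CompactSpace G.U := QuasiCompact.compactSpace_of_compactSpace G.pU
  haveI : IsNoetherian G.U := {}
  haveI : IsLocallyNoetherian G.R := LocallyOfFiniteType.isLocallyNoetherian G.s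
  haveI : CompactSpace G.R := QuasiCompact.compactSpace_of_compactSpace G.s
  haveI : IsNoetherian G.R := {}
  haveI : LocallyOfFinitePresentation G.s := LocallyOfFinitePresentation.iff_locallyOfFiniteType.2 inferInstance
  haveI := isIso_i G
  haveI : Flat G.t := by rw [← G.i_s]; infer_instance
  haveI : LocallyOfFinitePresentation G.t := by rw [← G.i_s]; infer_instance
  haveI : QuasiCompact G.t := inferInstance
  haveI : LocallyOfFiniteType (G.j ≫ pullback.fst G.pU G.pU) := by rw [GrpdLib.j_fst]; infer_instance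
  haveI : LocallyOfFiniteType G.j := locallyOfFiniteType_of_comp G.j (pullback.fst G.pU G.pU)
  haveI : LocallyOfFiniteType G.stabilizerToU :=
    inferInstanceAs (LocallyOfFiniteType (pullback.snd G.j G.diag))
  haveI : QuasiCompact G.stabilizerToU := inferInstanceAs (QuasiCompact (pullback.snd G.j G.diag))
  obtain ⟨O, hO, hOflat, -⟩ := FlatMisc.exists_dense_flat G.stabilizerToU
  have hto : IsOpenMap G.t := G.t.isOpenMap
  let W₀ := satOpen G hto O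
  have hW₀ : GrpdLib.IsInv G W₀ := isInv_satOpen G _ _
  have hsnd := flat_stabilizer_sat G O hto hOflat
  let D := GrpdLib.restrict G W₀ hW₀
  haveI : Flat D.s := IsZariskiLocalAtTarget.restrict ‹Flat G.s› W₀
  haveI : LocallyOfFiniteType D.s := IsZariskiLocalAtTarget.restrict ‹LocallyOfFiniteType G.s› W₀
  haveI : QuasiCompact D.s := IsZariskiLocalAtTarget.restrict ‹QuasiCompact G.s› W₀
  haveI : LocallyOfFiniteType D.pU := inferInstanceAs (LocallyOfFiniteType (W₀.ι ≫ G.pU))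
  haveI : QuasiCompact D.pU := inferInstanceAs (QuasiCompact (W₀.ι ≫ G.pU))
  haveI : Flat D.stabilizerToU := by
    obtain ⟨f, hf⟩ := exists_isPullback_stabilizer_restrict G W₀ hW₀
    rw [← hf.isoPullback_hom_snd]
    haveI := hsnd
    infer_instance
  obtain ⟨W₁, hW₁, hd, V, p, w, q, ⟨hcol⟩, hpq, hsurj, hflat, hp, hq, hqc⟩ := exists_quotient_of_flat_stab D
  let W : G.U.Opens := W₀.ι ''ᵁ W₁
  have hWiff : ∀ x : D.U, W₀.ι x ∈ W ↔ x ∈ W₁ := fun x => W₀.ι.isOpenEmbedding.injective.mem_set_image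
  have hsW : ∀ r : G.R, G.s r ∈ W ↔ ∃ hr : r ∈ G.s ⁻¹ᵁ W₀, D.s ⟨r, hr⟩ ∈ W₁ := fun r => by
    constructor
    · rintro ⟨x, hx, e⟩
      have hr : r ∈ G.s ⁻¹ᵁ W₀ := by show G.s r ∈ W₀; rw [← e]; exact x.2
      refine ⟨r |> fun _ => hr, (hWiff _).1 ?_⟩
      rw [show W₀.ι (D.s ⟨r, hr⟩) = G.s r from congrArg (fun φ => φ ⟨r, hr⟩) (GrpdLib.resS_ι G W₀)]
      exact ⟨x, hx, e⟩
    · rintro ⟨hr, h⟩
      rw [← show W₀.ι (D.s ⟨r, hr⟩) = G.s r from congrArg (fun φ => φ ⟨r, hr⟩) (GrpdLib.resS_ι G W₀)]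
      exact (hWiff _).2 h
  have htW : ∀ r : G.R, G.t r ∈ W ↔ ∃ hr : r ∈ G.s ⁻¹ᵁ W₀, D.t ⟨r, hr⟩ ∈ W₁ := fun r => by
    constructor
    · rintro ⟨x, hx, e⟩
      have hr : r ∈ G.s ⁻¹ᵁ W₀ := by
        show G.s r ∈ W₀
        rw [hW₀.mem_iff, ← e]; exact x.2
      refine ⟨r |> fun _ => hr, (hWiff _).1 ?_⟩
      rw [show W₀.ι (D.t ⟨r, hr⟩) = G.t r from congrArg (fun φ => φ ⟨r, hr⟩) (GrpdLib.resT_ι G W₀ hW₀)]
      exact ⟨x, hx, e⟩
    · rintro ⟨hr, h⟩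
      rw [← show W₀.ι (D.t ⟨r, hr⟩) = G.t r from congrArg (fun φ => φ ⟨r, hr⟩) (GrpdLib.resT_ι G W₀ hW₀)]
      exact (hWiff _).2 h
  have hW : G.t ⁻¹ᵁ W = G.s ⁻¹ᵁ W := SetLike.ext fun r => by
    refine (htW r).trans (Iff.trans ?_ (hsW r).symm)
    exact exists_congr fun hr => SetLike.ext_iff.1 hW₁ ⟨r, hr⟩
  have hdW : Dense (W : Set G.U) := by
    have h0 : Dense (W₀ : Set G.U) := hO.mono (le_satOpen G hto O)
    have h1 : (W₀ : Set G.U) ⊆ closure (W : Set G.U) := fun x hx =>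
      image_closure_subset_closure_image W₀.ι.continuous ⟨⟨x, hx⟩, hd ⟨x, hx⟩, rfl⟩
    exact dense_closure.1 (h0.mono h1)
  let φ : W₁.toScheme ≅ W.toScheme := W₀.ι.isoImage W₁
  have hφ : φ.hom ≫ W.ι = W₁.ι ≫ W₀.ι := Scheme.Hom.isoImage_hom_ι _ _
  let ι₀ : D.R ⟶ G.R := (G.s ⁻¹ᵁ W₀).ι
  have hle : D.s ⁻¹ᵁ W₁ ≤ ι₀ ⁻¹ᵁ (G.s ⁻¹ᵁ W) := fun r hr => (hsW r.1).2 ⟨r.2, hr⟩
  let ψ := ι₀.resLE (G.s ⁻¹ᵁ W) (D.s ⁻¹ᵁ W₁) hle
  have hψ : ψ ≫ (G.s ⁻¹ᵁ W).ι = (D.s ⁻¹ᵁ W₁).ι ≫ ι₀ := Scheme.Hom.resLE_comp_ι _ _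
  haveI : IsOpenImmersion (ψ ≫ (G.s ⁻¹ᵁ W).ι) := by
    rw [hψ]
    haveI : IsOpenImmersion ι₀ := inferInstanceAs (IsOpenImmersion (G.s ⁻¹ᵁ W₀).ι)
    infer_instance
  haveI : IsOpenImmersion ψ := IsOpenImmersion.of_comp ψ (G.s ⁻¹ᵁ W).ι
  haveI : IsIso ψ := isIso_of_isOpenImmersion_of_opensRange_eq_top _ (top_le_iff.1 fun r _ => by
    obtain ⟨hr, h⟩ := (hsW r.1).1 r.2
    refine ⟨⟨⟨r.1, hr⟩, h⟩, (G.s ⁻¹ᵁ W).ι.isOpenEmbedding.injective ?_⟩
    exact congrArg (fun f => f ⟨⟨r.1, hr⟩, h⟩) hψ)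
  have es : ψ ≫ (G.s ∣_ W) = (D.s ∣_ W₁) ≫ φ.hom := by
    rw [← cancel_mono W.ι, Category.assoc, Category.assoc, morphismRestrict_ι, reassoc_of% hψ, hφ,
      morphismRestrict_ι_assoc]
    exact congrArg ((D.s ⁻¹ᵁ W₁).ι ≫ ·) (GrpdLib.resS_ι G W₀).symm
  have et : ψ ≫ G.t.resLE W (G.s ⁻¹ᵁ W) hW.ge = D.t.resLE W₁ (D.s ⁻¹ᵁ W₁) hW₁.ge ≫ φ.hom := by
    rw [← cancel_mono W.ι, Category.assoc, Category.assoc, Scheme.Hom.resLE_comp_ι, reassoc_of% hψ, hφ,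
      Scheme.Hom.resLE_comp_ι_assoc]
    exact congrArg ((D.s ⁻¹ᵁ W₁).ι ≫ ·) (GrpdLib.resT_ι G W₀ hW₀).symm
  have w' : G.t.resLE W (G.s ⁻¹ᵁ W) hW.ge ≫ φ.inv ≫ p = (G.s ∣_ W) ≫ φ.inv ≫ p := by
    rw [← cancel_epi ψ, reassoc_of% et, reassoc_of% es, φ.hom_inv_id_assoc]
    exact w
  have key : ∀ (T : Scheme.{u}) (f : (W : Scheme.{u}) ⟶ T),
      G.t.resLE W (G.s ⁻¹ᵁ W) hW.ge ≫ f = (G.s ∣_ W) ≫ f → ∃! h : V ⟶ T, (φ.inv ≫ p) ≫ h = f := by
    intro T f hf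
    have hf' : D.t.resLE W₁ (D.s ⁻¹ᵁ W₁) hW₁.ge ≫ φ.hom ≫ f = (D.s ∣_ W₁) ≫ φ.hom ≫ f := by
      rw [← reassoc_of% et, ← reassoc_of% es, hf]
    obtain ⟨h, hh⟩ := Cofork.IsColimit.desc' hcol _ hf'
    replace hh : p ≫ h = φ.hom ≫ f := hh
    refine ⟨h, by simp [hh], fun h' hh' => Cofork.IsColimit.hom_ext hcol ?_⟩
    show p ≫ h' = p ≫ h
    rw [hh, ← hh', Category.assoc, φ.hom_inv_id_assoc]
  choose d hd₁ hd₂ using key
  haveI := hsurj
  haveI := hflat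
  haveI := hp
  refine ⟨W, hW, hdW, V, φ.inv ≫ p, w', q, ?_, ?_, inferInstance, inferInstance, inferInstance, hq, hqc⟩
  · exact ⟨Cofork.IsColimit.mk _ (fun c => d c.pt c.π c.condition) (fun c => hd₁ c.pt c.π c.condition)
      fun c m hm => hd₂ c.pt c.π c.condition m hm⟩
  · rw [Category.assoc, Iso.inv_comp_eq, reassoc_of% hφ]
    exact hpq

open MonoidalCategory CartesianMonoidalCategory MonObj in
theorem exists_action_quotient_flat {S : Scheme.{u}} [IsNoetherian S] (G X : Over S) [GrpObj G]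
    [Flat G.hom] [LocallyOfFiniteType G.hom] [QuasiCompact G.hom] [LocallyOfFiniteType X.hom] [QuasiCompact X.hom]
    (a : AlgGrp.Action G X)
    (hF : Flat (pullback.snd (lift a.act (snd G X)) (lift (𝟙 X) (𝟙 X))).left ∨ IsReduced X.left) :
    ∃ (U : X.left.Opens) (hU : a.act.left ⁻¹ᵁ U = (snd G X).left ⁻¹ᵁ U), Dense (U : Set X.left) ∧
      ∃ (V : Scheme.{u}) (p : (U : Scheme.{u}) ⟶ V)
        (w : a.act.left.resLE U ((snd G X).left ⁻¹ᵁ U) hU.ge ≫ p = ((snd G X).left ∣_ U) ≫ p) (q : V ⟶ S),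
        Nonempty (IsColimit (Cofork.ofπ p w)) ∧ p ≫ q = U.ι ≫ X.hom ∧
        Surjective p ∧ Flat p ∧ LocallyOfFinitePresentation p ∧ LocallyOfFiniteType q ∧ QuasiCompact q := by
  let D := AlgSpDec.ActGroupoid.gpd a
  obtain ⟨-, ⟨⟨⟨hs1, hs2⟩, hs3⟩, -⟩⟩ := AlgStLib.MonoFactor.act_props a
  haveI : Flat D.s := hs1
  haveI := hs2
  haveI : LocallyOfFinitePresentation D.s := hs2
  haveI : QuasiCompact D.s := hs3
  haveI : LocallyOfFiniteType D.pU := ‹LocallyOfFiniteType X.hom›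
  haveI : QuasiCompact D.pU := ‹QuasiCompact X.hom›
  refine exists_quotient_of_flat_stab_or_reduced D (hF.imp_left fun hF => ?_)
  have sq := (IsPullback.of_hasPullback (AlgStLib.MonoFactor.graph a) (lift (𝟙 X) (𝟙 X))).map (Over.forget S)
  have hdiag : D.diag = (lift (𝟙 X) (𝟙 X)).left := by
    apply pullback.hom_ext
    · exact (pullback.lift_fst _ _ _).trans (congrArg CommaMorphism.left (lift_fst (𝟙 X) (𝟙 X))).symm
    · exact (pullback.lift_snd _ _ _).trans (congrArg CommaMorphism.left (lift_snd (𝟙 X) (𝟙 X))).symm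
  have sq' : IsPullback (pullback.fst (AlgStLib.MonoFactor.graph a) (lift (𝟙 X) (𝟙 X))).left
      (pullback.snd (AlgStLib.MonoFactor.graph a) (lift (𝟙 X) (𝟙 X))).left D.j D.diag := by
    rw [j_gpd, hdiag]; exact sq
  show Flat (pullback.snd D.j D.diag)
  rw [← sq'.isoPullback_inv_snd]
  haveI : Flat (pullback.snd (AlgStLib.MonoFactor.graph a) (lift (𝟙 X) (𝟙 X))).left := hF
  exact inferInstanceAs (Flat (_ ≫ (pullback.snd (AlgStLib.MonoFactor.graph a) (lift (𝟙 X) (𝟙 X))).left))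

end Groth.Agent.GrpdGen
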