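import Mathlib.AlgebraicGeometry.Morphisms.FiniteType
import Mathlib.AlgebraicGeometry.Noetherian
import Mathlib.RingTheory.Adjoin.Tower
import Mathlib.RingTheory.Localization.Integral
import Mathlib.RingTheory.Finiteness.Basic

/-!
# Finite type below an injective integral map over a Noetherian base
-/

set_option autoImplicit false
set_option backward.isDefEq.respectTransparency false
set_option backward.isDefEq.respectTransparency.types false

universe u

open AlgebraicGeometry CategoryTheory CategoryTheory.Limits TopologicalSpace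

namespace Groth.Agent.GrpdGen

/-- Artin–Tate. -/
theorem finiteType_of_injective_integral {O C A : Type u} [CommRing O] [CommRing C] [CommRing A]
    [IsNoetherianRing O] (ρ : O →+* C) (φ : C →+* A) (hinj : Function.Injective φ) (hint : φ.IsIntegral)
    (hft : (φ.comp ρ).FiniteType) : ρ.FiniteType := by
  algebraize [ρ, φ, φ.comp ρ]
  have hAC : (⊤ : Subalgebra O A).FG := Algebra.FiniteType.out
  haveI : Algebra.FiniteType C A := Algebra.FiniteType.of_restrictScalars_finiteType O C A
  haveI : Algebra.IsIntegral C A := ⟨hint⟩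
  haveI : Module.Finite C A := Algebra.IsIntegral.finite
  exact ⟨fg_of_fg_of_fg O C A hAC Module.Finite.fg_top hinj⟩

theorem locallyOfFiniteType_of_injective_integral {C A : CommRingCat.{u}} {S : Scheme.{u}}
    [IsLocallyNoetherian S] (φ : C ⟶ A) (hinj : Function.Injective φ) (hint : φ.hom.IsIntegral)
    (f : Spec C ⟶ S) (hf : LocallyOfFiniteType (Spec.map φ ≫ f)) : LocallyOfFiniteType f := by
  choose S₀ hS₀ hmem using fun x : Spec C => exists_isAffineOpen_mem_and_subset
    (show f x ∈ (⊤ : S.Opens) from trivial)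
  have hb : ∀ x : Spec C, ∃ c : C, x ∈ PrimeSpectrum.basicOpen c ∧
      (PrimeSpectrum.basicOpen c : Set (PrimeSpectrum C)) ⊆ f ⁻¹' (S₀ x : Set S) := fun x => by
    obtain ⟨_, ⟨c, rfl⟩, hx, hc⟩ := PrimeSpectrum.isTopologicalBasis_basic_opens.exists_subset_of_mem_open
      (show x ∈ (f ⁻¹ᵁ S₀ x : (Spec C).Opens) from (hmem x).1) (f ⁻¹ᵁ S₀ x).isOpen
    exact ⟨c, hx, hc⟩
  choose c hxc hcS using hb
  let g : ∀ x, Spec (CommRingCat.of (Localization.Away (c x))) ⟶ Spec C :=
    fun x => Spec.map (CommRingCat.ofHom (algebraMap C (Localization.Away (c x))))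
  have hg : ∀ x, Set.range (g x) = (PrimeSpectrum.basicOpen (c x) : Set (PrimeSpectrum C)) :=
    fun x => PrimeSpectrum.localization_away_comap_range _ (c x)
  haveI : ∀ x, IsOpenImmersion (g x) := fun x => IsOpenImmersion.of_isLocalization (c x)
  refine IsZariskiLocalAtSource.of_openCover (P := @LocallyOfFiniteType)
    (Scheme.Cover.mkOfCovers (Spec C) _ g (fun x => ⟨x, by
      have : x ∈ Set.range (g x) := by rw [hg]; exact hxc x
      exact this⟩) inferInstance) fun (x : Spec C) => ?_
  show LocallyOfFiniteType (g x ≫ f)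
  haveI : IsLocallyNoetherian S := inferInstance
  haveI : IsNoetherianRing Γ(S, S₀ x) := IsLocallyNoetherian.component_noetherian ⟨S₀ x, hS₀ x⟩
  have hr : Set.range (g x ≫ f) ⊆ Set.range (hS₀ x).fromSpec := by
    rw [(hS₀ x).range_fromSpec]
    rintro _ ⟨y, rfl⟩
    exact hcS x ((hg x).le ⟨y, rfl⟩)
  obtain ⟨ρ, hρ⟩ := Spec.map_surjective (IsOpenImmersion.lift (hS₀ x).fromSpec (g x ≫ f) hr)
  have hfac : Spec.map ρ ≫ (hS₀ x).fromSpec = g x ≫ f := by rw [hρ, IsOpenImmersion.lift_fac]
  let A' := Localization.Away (φ (c x))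
  let φ' : Localization.Away (c x) →+* A' :=
    IsLocalization.Away.map (Localization.Away (c x)) A' φ.hom (c x)
  have hinj' : Function.Injective φ' :=
    IsLocalization.map_injective_of_injective _ _ _ (hinj : Function.Injective φ.hom)
  have hint' : φ'.IsIntegral := by
    algebraize [φ.hom]
    haveI : Algebra.IsIntegral C A := ⟨hint⟩
    haveI : IsLocalization (Algebra.algebraMapSubmonoid A (Submonoid.powers (c x))) A' := by
      rw [Algebra.algebraMapSubmonoid, Submonoid.map_powers]
      exact inferInstanceAs (IsLocalization (Submonoid.powers (φ.hom (c x))) A')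
    exact isIntegral_localization (R := C) (S := A) (M := Submonoid.powers (c x))
      (Rₘ := Localization.Away (c x)) (Sₘ := A')
  have hft : (φ'.comp ρ.hom).FiniteType := by
    haveI : IsOpenImmersion (Spec.map (CommRingCat.ofHom (algebraMap A A'))) :=
      IsOpenImmersion.of_isLocalization (φ (c x))
    haveI := hf
    have h1 : LocallyOfFiniteType (Spec.map (CommRingCat.ofHom (algebraMap A A')) ≫ Spec.map φ ≫ f) :=
      inferInstance
    have e : Spec.map (CommRingCat.ofHom (algebraMap A A')) ≫ Spec.map φ =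
        Spec.map (CommRingCat.ofHom φ') ≫ g x := by
      rw [← Spec.map_comp, ← Spec.map_comp]
      congr 1
      ext a
      show algebraMap A A' (φ.hom a) = φ' (algebraMap C _ a)
      exact (IsLocalization.map_eq _ a).symm
    rw [reassoc_of% e, ← hfac, ← Spec.map_comp_assoc] at h1
    haveI := h1
    exact (HasRingHomProperty.Spec_iff (P := @LocallyOfFiniteType)).1
      (locallyOfFiniteType_of_comp (Spec.map (ρ ≫ CommRingCat.ofHom φ')) (hS₀ x).fromSpec)
  rw [← hfac]
  haveI : LocallyOfFiniteType (Spec.map ρ) := (HasRingHomProperty.Spec_iff (P := @LocallyOfFiniteType)).2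
    (finiteType_of_injective_integral ρ.hom φ' hinj' hint' hft)
  infer_instance

end Groth.Agent.GrpdGen
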