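import Groth.Agent.GrpdGen.QSec

/-!
# A dense saturated open with a quasi-section
-/

set_option autoImplicit false
set_option backward.isDefEq.respectTransparency false
set_option backward.isDefEq.respectTransparency.types false
set_option linter.style.haveILetI false
set_option linter.unusedSectionVars false

universe u

open AlgebraicGeometry CategoryTheory CategoryTheory.Limits Grpd TopologicalSpace

namespace Groth.Agent.GrpdGen

variable {S : Scheme.{u}} (G : GroupoidScheme S)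

theorem qSec_bot : Nonempty (QSec G ⊥) := by
  haveI : IsAffine (⊥ : G.U.Opens).toScheme := isAffineOpen_bot G.U
  haveI : IsEmpty ↥(⊥ : G.U.Opens).toScheme := ⟨fun x => x.2⟩
  refine nonempty_qSec G (⊥ : G.U.Opens).ι ⊥ (Opens.ext (Set.ext fun _ => Iff.rfl)) ?_ fun x hx => hx.elim
  haveI : IsIso (GrpdLib.srcMap G (⊥ : G.U.Opens).ι ∣_ ⊥) := isIso_of_isEmpty _
  exact ⟨inferInstance, inferInstance, inferInstance⟩

theorem isIso_i : IsIso G.i := ⟨G.i, GrpdLib.i_i G, GrpdLib.i_i G⟩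

variable [IsNoetherian G.U] [IsNoetherian G.R] [Flat G.s] [Flat G.t] [LocallyOfFinitePresentation G.s]
  [LocallyOfFinitePresentation G.t] [LocallyQuasiFinite G.j]

theorem exists_larger {W : G.U.Opens} (hW : GrpdLib.IsInv G W) (Q : QSec G W)
    (hd : ¬ Dense (W : Set G.U)) :
    ∃ W' : G.U.Opens, GrpdLib.IsInv G W' ∧ Nonempty (QSec G W') ∧ W < W' := by
  have hne : ((⟨(closure (W : Set G.U))ᶜ, isClosed_closure.isOpen_compl⟩ : G.U.Opens) : Set G.U).Nonempty := by
    rw [dense_iff_closure_eq] at hd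
    exact Set.nonempty_compl.2 hd
  obtain ⟨Z, _, g, hi, hl, hflat, hqf, q, hq⟩ := exists_slice G _ hne
  haveI := hi
  haveI := hl
  let h := GrpdLib.srcMap G g
  have hh : (pullbackSymmetry G.t g).hom ≫ pullback.snd g G.t ≫ G.s = h := by
    rw [pullbackSymmetry_hom_comp_snd_assoc]; rfl
  haveI := hflat
  haveI := hqf
  haveI : Flat h := by rw [← hh]; infer_instance
  haveI : LocallyQuasiFinite h := by rw [← hh]; infer_instance
  haveI : LocallyOfFinitePresentation h :=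
    inferInstanceAs (LocallyOfFinitePresentation (pullback.fst G.t g ≫ G.s))
  haveI : QuasiCompact h := inferInstanceAs (QuasiCompact (pullback.fst G.t g ≫ G.s))
  let N : G.U.Opens := ⟨(closure (W : Set G.U))ᶜ ∩ Set.range h,
    isClosed_closure.isOpen_compl.inter h.isOpenMap.isOpen_range⟩
  have hN : (N : Set G.U).Nonempty := ⟨_, hq, (pullbackSymmetry G.t g).inv q, by
    rw [← Scheme.Hom.comp_apply, ← hh, Iso.inv_hom_id_assoc]⟩
  obtain ⟨W₀, hW₀, hW₀N, hfin⟩ := FlatMisc.FiniteDense.exists_finite_open_in h hN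
  let W₁ := satOpen G G.t.isOpenMap W₀
  have hW₁ : GrpdLib.IsInv G W₁ := isInv_satOpen G _ _
  have hfin₁ : IsFinite (h ∣_ W₁) := isFinite_srcMap_restrict_sat G g W₀ hfin _
  have hsurj : ∀ x ∈ W₁, ∃ q, h q = x := by
    rintro x ⟨r, hr, rfl⟩
    obtain ⟨q, hq⟩ := (hW₀N hr).2
    have hq' : G.s (pullback.fst G.t g q) = G.s r := by
      rw [← hq, ← Scheme.Hom.comp_apply]; rfl
    obtain ⟨r', hr₁, hr₂⟩ := GrpdLib.exists_inv G r
    obtain ⟨b, hb₁, hb₂⟩ := GrpdLib.exists_comp G (pullback.fst G.t g q) r' (by rw [hq', hr₁])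
    obtain ⟨p, hp₁, hp₂⟩ := Scheme.Pullback.exists_preimage_pullback (f := G.t) (g := g) b (pullback.snd G.t g q)
      (by rw [hb₁, ← Scheme.Hom.comp_apply, pullback.condition, Scheme.Hom.comp_apply])
    refine ⟨p, ?_⟩
    show (pullback.fst G.t g ≫ G.s) p = _
    rw [Scheme.Hom.comp_apply, hp₁, hb₂, hr₂]
  obtain ⟨Q₁⟩ := nonempty_qSec G g W₁ hW₁
    ⟨hfin₁, IsZariskiLocalAtTarget.restrict ‹Flat h› _,
      IsZariskiLocalAtTarget.restrict ‹LocallyOfFinitePresentation h› _⟩ hsurj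
  have hdisj : Disjoint (W : Set G.U) W₁ := Set.disjoint_left.2 fun x hxW hx₁ => by
    obtain ⟨r, hr, rfl⟩ := hx₁
    exact (hW₀N hr).1 (subset_closure ((hW.mem_iff r).2 hxW))
  refine ⟨W ⊔ W₁, GrpdLib.isInv_of_mem fun r hr => hr.elim (fun h => Or.inl ((hW.mem_iff r).1 h))
    (fun h => Or.inr ((hW₁.mem_iff r).1 h)), Q.nonempty_union G hW hW₁ hdisj Q₁, le_sup_left.lt_of_ne fun e => ?_⟩
  obtain ⟨x, hx⟩ := hW₀
  have hxW : x ∈ W := e.symm.le (Or.inr (le_satOpen G _ W₀ hx))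
  exact (hW₀N hx).1 (subset_closure hxW)

/-- A dense saturated open with a quasi-section. -/
theorem exists_dense_qSec :
    ∃ W : G.U.Opens, GrpdLib.IsInv G W ∧ Dense (W : Set G.U) ∧ Nonempty (QSec G W) := by
  have hwf : WellFounded ((· > ·) : G.U.Opens → G.U.Opens → Prop) :=
    (inferInstance : WellFoundedGT G.U.Opens).wf
  obtain ⟨W, ⟨hW, ⟨Q⟩⟩, hmax⟩ := hwf.has_min {W : G.U.Opens | GrpdLib.IsInv G W ∧ Nonempty (QSec G W)}
    ⟨⊥, Opens.ext (Set.ext fun _ => Iff.rfl), qSec_bot G⟩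
  refine ⟨W, hW, ?_, ⟨Q⟩⟩
  by_contra hd
  obtain ⟨W', hW', hQ', hlt⟩ := exists_larger G hW Q hd
  exact hmax W' ⟨hW', hQ'⟩ hlt

end Groth.Agent.GrpdGen
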