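import Groth.Agent.GrpdGen.Relation
import Groth.Agent.AlgSpPts.Sep

/-!
# Generic quotients for flat stabilizers
-/

set_option autoImplicit false
set_option backward.isDefEq.respectTransparency false
set_option backward.isDefEq.respectTransparency.types false
set_option linter.style.haveILetI false
set_option linter.unusedSectionVars false

universe u

open AlgebraicGeometry CategoryTheory CategoryTheory.Limits Grpd TopologicalSpace

namespace Groth.Agent.GrpdGen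

theorem exists_quotient_of_flat_stab {S : Scheme.{u}} [IsNoetherian S] (G : GroupoidScheme S)
    [Flat G.s] [LocallyOfFiniteType G.s] [QuasiCompact G.s] [LocallyOfFiniteType G.pU] [QuasiCompact G.pU]
    [Flat G.stabilizerToU] :
    ∃ (W : G.U.Opens) (hW : G.t ⁻¹ᵁ W = G.s ⁻¹ᵁ W), Dense (W : Set G.U) ∧
      ∃ (V : Scheme.{u}) (p : (W : Scheme.{u}) ⟶ V)
        (w : G.t.resLE W (G.s ⁻¹ᵁ W) hW.ge ≫ p = (G.s ∣_ W) ≫ p) (q : V ⟶ S),
        Nonempty (IsColimit (Cofork.ofπ p w)) ∧ p ≫ q = W.ι ≫ G.pU ∧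
        Surjective p ∧ Flat p ∧ LocallyOfFinitePresentation p ∧ LocallyOfFiniteType q ∧ QuasiCompact q := by
  haveI : IsLocallyNoetherian G.U := LocallyOfFiniteType.isLocallyNoetherian G.pU
  haveI : CompactSpace G.U := QuasiCompact.compactSpace_of_compactSpace G.pU
  haveI : IsNoetherian G.U := {}
  haveI : IsLocallyNoetherian G.R := LocallyOfFiniteType.isLocallyNoetherian G.s
  haveI : CompactSpace G.R := QuasiCompact.compactSpace_of_compactSpace G.s
  haveI : IsNoetherian G.R := {}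
  haveI : LocallyOfFinitePresentation G.s := LocallyOfFinitePresentation.iff_locallyOfFiniteType.2 inferInstance
  haveI := isIso_i G
  haveI : LocallyOfFinitePresentation G.t := by rw [← G.i_s]; infer_instance
  haveI : LocallyOfFinitePresentation (G.j ≫ pullback.fst G.pU G.pU) := by rw [GrpdLib.j_fst]; infer_instance
  haveI : LocallyOfFiniteType (pullback.fst G.pU G.pU) := inferInstance
  haveI : LocallyOfFinitePresentation G.j :=
    AlgSpPts.locallyOfFinitePresentation_of_comp G.j (pullback.fst G.pU G.pU)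
  haveI := flat_fst_j_j G
  obtain ⟨Y, ψ, τ, _, _, _, _, hτ⟩ := AlgStLib.MonoFactor.exists_factor G.j
  haveI : QuasiCompact ψ := inferInstance
  let D := relGrpd G ψ τ hτ
  have hs := ψ_relS G ψ τ hτ
  have ht := ψ_relT G ψ τ hτ
  haveI : Flat (ψ ≫ relS G τ) := by rw [hs]; infer_instance
  haveI : LocallyOfFinitePresentation (ψ ≫ relS G τ) := by rw [hs]; infer_instance
  haveI : Flat D.s := SrcDescent.flat_of_fppf_comp ψ (relS G τ)
  haveI : LocallyOfFinitePresentation (relS G τ) :=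
    SrcDescent.locallyOfFinitePresentation_of_fppf_comp ψ (relS G τ)
  haveI : IsLocallyNoetherian Y := LocallyOfFiniteType.isLocallyNoetherian (relS G τ)
  haveI : CompactSpace Y := ⟨by rw [← ψ.surjective.range_eq]; exact isCompact_range ψ.continuous⟩
  haveI : IsNoetherian Y := {}
  haveI : LocallyOfFiniteType D.s := inferInstanceAs (LocallyOfFiniteType (relS G τ))
  haveI : QuasiCompact D.s := inferInstanceAs (QuasiCompact (relS G τ))
  haveI : LocallyOfFiniteType D.pU := ‹LocallyOfFiniteType G.pU›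
  haveI : QuasiCompact D.pU := ‹QuasiCompact G.pU›
  haveI hmono : Mono D.j := by rw [j_relGrpd]; infer_instance
  haveI : LocallyOfFiniteType τ := by
    haveI : LocallyOfFiniteType (τ ≫ pullback.snd G.pU G.pU) := inferInstanceAs (LocallyOfFiniteType (relS G τ))
    exact locallyOfFiniteType_of_comp τ (pullback.snd G.pU G.pU)
  haveI : LocallyQuasiFinite D.j := by
    rw [j_relGrpd]; exact LocallyQuasiFinite.of_injective τ.injective
  obtain ⟨W, hW, hd, V, p, w, q, ⟨hcol⟩, hpq, hsurj, -, hp, hq, hqc, -, -, hm⟩ := exists_dense_quotient D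
  have hflat := (hm hmono).2
  let W' : G.U.Opens := W
  have hWs : G.s ⁻¹ᵁ W' = ψ ⁻¹ᵁ (relS G τ ⁻¹ᵁ W') := by rw [← hs]; rfl
  have hW' : G.t ⁻¹ᵁ W' = G.s ⁻¹ᵁ W' := by
    rw [hWs, ← ht, Scheme.Hom.comp_preimage]
    exact congrArg (ψ ⁻¹ᵁ ·) hW
  let ψW := ψ.resLE (relS G τ ⁻¹ᵁ W') (G.s ⁻¹ᵁ W') hWs.le
  have hψ : ψW ≫ (relS G τ ⁻¹ᵁ W').ι = (G.s ⁻¹ᵁ W').ι ≫ ψ := Scheme.Hom.resLE_comp_ι _ _
  haveI : Surjective ψW := ⟨fun y => by
    obtain ⟨x, hx⟩ := ψ.surjective y.1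
    refine ⟨⟨x, ?_⟩, (relS G τ ⁻¹ᵁ W').ι.isOpenEmbedding.injective ?_⟩
    · show x ∈ G.s ⁻¹ᵁ W'
      rw [hWs]
      show ψ x ∈ relS G τ ⁻¹ᵁ W'
      rw [hx]; exact y.2
    · rw [← Scheme.Hom.comp_apply, hψ, Scheme.Hom.comp_apply]; exact hx⟩
  haveI : Flat ψW := MorphismProperty.of_postcomp (W := @Flat) (W' := @IsOpenImmersion) _
    (relS G τ ⁻¹ᵁ W').ι inferInstance (by rw [hψ]; infer_instance)
  haveI : QuasiCompact (ψW ≫ (relS G τ ⁻¹ᵁ W').ι) := by rw [hψ]; infer_instance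
  haveI : QuasiCompact ψW := QuasiCompact.of_comp _ (relS G τ ⁻¹ᵁ W').ι
  have e₁ : G.t.resLE W' (G.s ⁻¹ᵁ W') hW'.ge = ψW ≫ (relT G τ).resLE W' (relS G τ ⁻¹ᵁ W') hW.ge := by
    rw [← cancel_mono W'.ι, Category.assoc, Scheme.Hom.resLE_comp_ι, Scheme.Hom.resLE_comp_ι, reassoc_of% hψ, ht]
  have e₂ : G.s ∣_ W' = ψW ≫ (relS G τ ∣_ W') := by
    rw [← cancel_mono W'.ι, Category.assoc, morphismRestrict_ι, morphismRestrict_ι, reassoc_of% hψ, hs]
  have w' : G.t.resLE W' (G.s ⁻¹ᵁ W') hW'.ge ≫ p = (G.s ∣_ W') ≫ p := by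
    rw [e₁, e₂, Category.assoc, Category.assoc]
    exact congrArg (ψW ≫ ·) w
  have key : ∀ (T : Scheme.{u}) (f : (W' : Scheme.{u}) ⟶ T),
      G.t.resLE W' (G.s ⁻¹ᵁ W') hW'.ge ≫ f = (G.s ∣_ W') ≫ f → ∃! h : V ⟶ T, p ≫ h = f := by
    intro T f hf
    rw [e₁, e₂, Category.assoc, Category.assoc, cancel_epi ψW] at hf
    obtain ⟨h, hh⟩ := Cofork.IsColimit.desc' hcol f hf
    exact ⟨h, hh, fun h' hh' => Cofork.IsColimit.hom_ext hcol (hh'.trans hh.symm)⟩
  choose d hd₁ hd₂ using key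
  refine ⟨W', hW', hd, V, p, w', q, ?_, hpq, hsurj, hflat, hp, ?_, hqc⟩
  · exact ⟨Cofork.IsColimit.mk _ (fun c => d c.pt c.π c.condition) (fun c => hd₁ c.pt c.π c.condition)
      fun c m hm => hd₂ c.pt c.π c.condition m hm⟩
  · haveI := hq
    infer_instance

end Groth.Agent.GrpdGen
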