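import Groth.Agent.GrpdSlice.Main
import Groth.Agent.GrpdFld.Shear
import Groth.Agent.GrpdLib.OrbitTop
import Groth.Agent.FlatMisc.NowhereDense
import Groth.Agent.FtPts6.Basic
import Groth.Agent.LC.CanonAnnihilator
import Groth.Agent.S1345
import Groth.Agent.S1347

/-!
# Quasi-finite flat slices meeting a given open
-/

set_option autoImplicit false
set_option backward.isDefEq.respectTransparency false
set_option backward.isDefEq.respectTransparency.types false
set_option linter.style.haveILetI false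

universe u

open AlgebraicGeometry CategoryTheory CategoryTheory.Limits IsLocalRing Grpd TopologicalSpace

namespace Groth.Agent.GrpdGen

theorem isCMAt_of_maximal {X Y : Scheme.{u}} (f : X ⟶ Y) [Flat f] [IsLocallyNoetherian X] (x : X)
    (hx : ∀ z : X, z ⤳ x → z = x) : MoreMor.IsCMAt f x := by
  rw [Triage.CMMor.isCMAt_iff]
  refine ⟨Flat.stalkMap f x, ?_⟩
  haveI : Subsingleton (PrimeSpectrum (X.presheaf.stalk x)) := ⟨fun a b => by
    apply (X.fromSpecStalk x).isEmbedding.injective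
    have h : ∀ a, X.fromSpecStalk x a = x := fun a => hx _ (by
      have : X.fromSpecStalk x a ∈ Set.range (X.fromSpecStalk x) := ⟨a, rfl⟩
      rwa [Scheme.range_fromSpecStalk] at this)
    rw [h, h]⟩
  have hne : (maximalIdeal (Y.presheaf.stalk (f x))).map (f.stalkMap x).hom ≠ ⊤ := fun h =>
    (maximalIdeal.isMaximal (X.presheaf.stalk x)).ne_top (top_le_iff.1 (h.ge.trans
      (Ideal.map_le_iff_le_comap.2 fun a ha => map_nonunit (f.stalkMap x).hom a ha)))
  haveI := Ideal.Quotient.nontrivial_iff.2 hne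
  haveI : IsLocalRing (↑(X.presheaf.stalk x) ⧸ (maximalIdeal (Y.presheaf.stalk (f x))).map (f.stalkMap x).hom) :=
    .of_surjective' (Ideal.Quotient.mk _) Ideal.Quotient.mk_surjective
  refine LC.Canon.isCMLocal_of_dim_zero (le_antisymm ?_ ringKrullDim_nonneg_of_nontrivial)
  refine (ringKrullDim_quotient_le _).trans ?_
  exact Order.krullDim_nonpos_of_subsingleton

variable {S : Scheme.{u}} (G : GroupoidScheme S) [LocallyOfFinitePresentation G.s]
  [LocallyOfFinitePresentation G.t] [Flat G.s] [Flat G.t]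

omit [LocallyOfFinitePresentation G.t] [Flat G.t] in
theorem isLocallyNoetherian_fiber {X Y : Scheme.{u}} (f : X ⟶ Y) [LocallyOfFiniteType f] (y : Y) :
    IsLocallyNoetherian (f.fiber y) :=
  LocallyOfFiniteType.isLocallyNoetherian (f.fiberToSpecResidueField y)

/-- Cohen–Macaulayness of the source map moves along translations. -/
theorem isCMAt_e_of_isCMAt (r : G.R) (h : MoreMor.IsCMAt G.s r) :
    MoreMor.IsCMAt G.s (G.e (G.t r)) := by
  let p : ↥G.R → ↥(pullback G.s G.t) := fun _ =>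
    (pullback.lift (G.t ≫ G.e) (𝟙 G.R)
      (by rw [Category.assoc, G.e_s, Category.comp_id, Category.id_comp])) r
  have hc : G.c (p r) = r := by
    have e := G.e_comp (𝟙 G.R)
    simp only [Category.id_comp] at e
    exact congrArg (fun φ => φ r) e
  have hf : pullback.fst G.s G.t (p r) = G.e (G.t r) := by
    show _ = (G.t ≫ G.e) r
    rw [← Scheme.Hom.comp_apply, pullback.lift_fst]
  have h1 : MoreMor.IsCMAt (pullback.snd G.s G.t) (p r) :=
    S1345.result G.s (isLocallyNoetherian_fiber G.s) _ G.c G.s (GrpdFld.isPullback_c G) (p r) (hc.symm ▸ h)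
  rw [← hf]
  exact S1347.result G.s (isLocallyNoetherian_fiber G.s) _ _ G.t (IsPullback.of_hasPullback G.s G.t) (p r)
    (Flat.stalkMap G.t _) h1

/-- Near any point there is a finite type point, related to one at which `s` is Cohen–Macaulay at
the identity. -/
theorem exists_good_point [IsLocallyNoetherian G.R] (N : G.U.Opens) (hN : (N : Set G.U).Nonempty) :
    ∃ r : G.R, G.s r ∈ N ∧ LocallyOfFiniteType (G.U.fromSpecResidueField (G.t r)) ∧
      _root_.Grpd.IsCMAt G.s (G.e (G.t r)) := by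
  obtain ⟨x, hx⟩ := hN
  have hne : ((G.s ⁻¹ᵁ N : G.R.Opens) : Set G.R).Nonempty :=
    ⟨G.e x, by show G.s (G.e x) ∈ N; rw [← Scheme.Hom.comp_apply, G.e_s]; exact hx⟩
  obtain ⟨r₁, hr₁, hmax⟩ := FlatMisc.NowhereDense.exists_maximal_point hne
  let M : G.R.Opens := G.s ⁻¹ᵁ N ⊓ ⟨{x | MoreMor.IsCMAt G.s x}, CMOpen5.isOpen_isCMAt G.s⟩
  obtain ⟨A, hA, hrA, hAM⟩ := exists_isAffineOpen_mem_and_subset
    (show r₁ ∈ M from ⟨hr₁, isCMAt_of_maximal G.s r₁ hmax⟩)
  haveI : IsAffine A.toScheme := hA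
  obtain ⟨a, -, ha⟩ := IsClosed.exists_closed_singleton (isClosed_univ (X := A.toScheme)) ⟨⟨r₁, hrA⟩, trivial⟩
  obtain ⟨hN', hCM⟩ := hAM a.2
  refine ⟨a.1, hN', ?_, (GrpdSlice.isCMAt_iff _ _).2 (isCMAt_e_of_isCMAt G a.1 hCM)⟩
  haveI : LocallyOfFiniteType (G.R.fromSpecResidueField a.1) := FtPts6.pts_iff.2 ⟨A, hA, a.2, ha⟩
  have := ((FtPts6.field_point_iff _ (G.R.fromSpecResidueField a.1 ≫ G.t)).1 inferInstance).1
  have e : (G.R.fromSpecResidueField a.1 ≫ G.t) (closedPoint _) = G.t a.1 :=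
    congrArg G.t (Scheme.fromSpecResidueField_apply a.1 _)
  exact e ▸ this

/-- A flat quasi-finite slice whose orbit meets a given open. -/
theorem exists_slice [IsLocallyNoetherian G.R] [LocallyQuasiFinite G.j] (N : G.U.Opens)
    (hN : (N : Set G.U).Nonempty) :
    ∃ (Z : Scheme.{u}) (_ : IsAffine Z) (g : Z ⟶ G.U), IsImmersion g ∧ LocallyOfFinitePresentation g ∧
      Flat (pullback.snd g G.t ≫ G.s) ∧ LocallyQuasiFinite (pullback.snd g G.t ≫ G.s) ∧
      ∃ q, (pullback.snd g G.t ≫ G.s) q ∈ N := by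
  obtain ⟨r, hr, hft, hcm⟩ := exists_good_point G N hN
  haveI : LocallyQuasiFinite G.stabilizerToU :=
    MorphismProperty.pullback_snd (P := @LocallyQuasiFinite) G.j G.diag inferInstance
  obtain ⟨Z, _, g, z, -, hi, hl, hz, -, -, hCM, -, hqf⟩ := GrpdSlice.exists_max_of G (G.t r) hcm hft
  obtain ⟨q, -, hq⟩ := Scheme.Pullback.exists_preimage_pullback (f := g) (g := G.t) z r hz
  have h0 : topologicalKrullDim ↥(G.stabilizerToU.fiber (G.t r)) = 0 := by
    have : DiscreteTopology ↥(G.stabilizerToU.fiber (G.t r)) := inferInstance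
    have key : ∀ (a : G.stabilizer) (v : G.U), G.stabilizerToU a = v →
        Nonempty ↥(G.stabilizerToU.fiber v) := by
      rintro a v rfl
      exact ⟨G.stabilizerToU.asFiber a⟩
    obtain ⟨w⟩ := key (G.eStab (G.t r)) (G.t r) (by
        rw [← Scheme.Hom.comp_apply, GroupoidScheme.eStab, GroupoidScheme.stabilizerToU, pullback.lift_snd]
        rfl)
    refine le_antisymm (topologicalKrullDim_zero_of_discreteTopology _) ?_
    have : Nonempty (TopologicalSpace.IrreducibleCloseds ↥(G.stabilizerToU.fiber (G.t r))) :=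
      ⟨⟨closure {w}, isIrreducible_singleton.closure, isClosed_closure⟩⟩
    exact Order.krullDim_nonneg
  exact ⟨Z, inferInstance, g, hi, hl, GrpdSlice.flat_of_forall_isCMAt _ hCM, hqf h0, q, by
    rw [Scheme.Hom.comp_apply, hq]; exact hr⟩

end Groth.Agent.GrpdGen
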