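import Groth.Agent.GrpdGen.Spread
import Groth.Agent.GrpdLib.Restrict
import Groth.Prelude.Def_Mor2

/-!
# Quasi-sections over saturated opens
-/

set_option autoImplicit false
set_option backward.isDefEq.respectTransparency false
set_option backward.isDefEq.respectTransparency.types false
set_option linter.style.haveILetI false
set_option linter.unusedSectionVars false

universe u

open AlgebraicGeometry CategoryTheory CategoryTheory.Limits Grpd TopologicalSpace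

namespace Groth.Agent.GrpdGen

/-- Restrictions over `V` do not change along an open immersion covering the preimage of `V`. -/
theorem restrict_comp_iff {X₁ X Y : Scheme.{u}} (P : MorphismProperty Scheme.{u}) [P.RespectsIso]
    (j : X₁ ⟶ X) [IsOpenImmersion j] (f : X ⟶ Y) (V : Y.Opens) (h : (f ⁻¹' (V : Set Y)) ⊆ Set.range j) :
    P ((j ≫ f) ∣_ V) ↔ P (f ∣_ V) := by
  haveI : IsOpenImmersion (j ∣_ (f ⁻¹ᵁ V)) := IsZariskiLocalAtTarget.restrict ‹_› _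
  haveI : IsIso (j ∣_ (f ⁻¹ᵁ V)) := isIso_of_isOpenImmersion_of_opensRange_eq_top _ (top_le_iff.1 fun x _ => by
    obtain ⟨y, hy⟩ := h x.2
    refine ⟨⟨y, show j y ∈ f ⁻¹ᵁ V by rw [hy]; exact x.2⟩, Subtype.ext ?_⟩
    rw [morphismRestrict_base]
    exact hy)
  rw [morphismRestrict_comp]
  exact P.cancel_left_of_respectsIso _ _

/-- The comparison of pullbacks along an open immersion on the right. -/
theorem exists_openImmersion_pullback {R U X V : Scheme.{u}} (t : R ⟶ U) (g : X ⟶ U) (ι : V ⟶ X) [IsOpenImmersion ι] :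
    ∃ j : pullback t (ι ≫ g) ⟶ pullback t g, IsOpenImmersion j ∧
      j ≫ pullback.fst t g = pullback.fst t (ι ≫ g) ∧ j ≫ pullback.snd t g = pullback.snd t (ι ≫ g) ≫ ι ∧
      ∀ q, pullback.snd t g q ∈ Set.range ι → q ∈ Set.range j := by
  let j : pullback t (ι ≫ g) ⟶ pullback t g :=
    pullback.lift (pullback.fst _ _) (pullback.snd _ _ ≫ ι) (by rw [Category.assoc, pullback.condition])
  have hpb : IsPullback (pullback.snd t (ι ≫ g)) j ι (pullback.snd t g) := by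
    refine (IsPullback.of_right ?_ (pullback.lift_snd _ _ _) (IsPullback.of_hasPullback t g)).flip
    rw [pullback.lift_fst]
    exact IsPullback.of_hasPullback t (ι ≫ g)
  refine ⟨j, MorphismProperty.of_isPullback hpb inferInstance, pullback.lift_fst _ _ _, pullback.lift_snd _ _ _,
    fun q hq => ?_⟩
  obtain ⟨v, hv⟩ := hq
  obtain ⟨p, hp₁, hp₂⟩ := Scheme.Pullback.exists_preimage_pullback (f := ι) (g := pullback.snd t g) v q hv
  exact ⟨hpb.isoPullback.inv p, by rw [← Scheme.Hom.comp_apply, hpb.isoPullback_inv_snd]; exact hp₂⟩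

variable {S : Scheme.{u}} (G : GroupoidScheme S)

/-- A quasi-section of a groupoid over an open. -/
structure QSec (W : G.U.Opens) where
  /-- the quasi-section -/
  U' : Scheme.{u}
  /-- its inclusion -/
  g : U' ⟶ G.U
  immersion : IsImmersion g
  range_le : ∀ x, g x ∈ W
  fin : Mor2.IsFinLocFree (GrpdLib.srcMap G g ∣_ W)
  surj : ∀ x ∈ W, ∃ q, GrpdLib.srcMap G g q = x
  aff : ∀ E : Set U', (∀ x ∈ E, ∀ y ∈ E, ∃ r : G.R, G.t r = g x ∧ G.s r = g y) →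
    ∃ A : U'.Opens, IsAffineOpen A ∧ E ⊆ (A : Set U')

theorem map_mem {W : G.U.Opens} (hW : GrpdLib.IsInv G W) {U' : Scheme.{u}} (g : U' ⟶ G.U) (q : ↥(pullback G.t g)) :
    GrpdLib.srcMap G g q ∈ W ↔ g (pullback.snd G.t g q) ∈ W := by
  show (pullback.fst G.t g ≫ G.s) q ∈ W ↔ _
  rw [Scheme.Hom.comp_apply, hW.mem_iff, ← Scheme.Hom.comp_apply, pullback.condition, Scheme.Hom.comp_apply]

/-- A slice which is finite flat over an invariant open in its image gives a quasi-section. -/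
theorem nonempty_qSec {Z : Scheme.{u}} [IsAffine Z] (g : Z ⟶ G.U) [IsImmersion g] (W : G.U.Opens)
    (hW : GrpdLib.IsInv G W) (hfin : Mor2.IsFinLocFree (GrpdLib.srcMap G g ∣_ W))
    (hsurj : ∀ x ∈ W, ∃ q, GrpdLib.srcMap G g q = x) : Nonempty (QSec G W) := by
  let U' : Z.Opens := g ⁻¹ᵁ W
  let g' := U'.ι ≫ g
  obtain ⟨j, _, hjf, hjs, hjr⟩ := exists_openImmersion_pullback G.t g U'.ι
  have hj : GrpdLib.srcMap G g' = j ≫ GrpdLib.srcMap G g := by
    simp only [GrpdLib.srcMap, g', reassoc_of% hjf]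
  have hrange : (GrpdLib.srcMap G g ⁻¹' (W : Set G.U)) ⊆ Set.range j := fun q hq =>
    hjr q (by rw [Scheme.Opens.range_ι]; exact (map_mem G hW g q).1 hq)
  refine ⟨⟨U'.toScheme, g', inferInstance, fun x => x.2, ?_, fun x hx => ?_, fun E hE => ?_⟩⟩
  · rw [hj]
    exact ⟨(restrict_comp_iff @IsFinite j _ W hrange).2 hfin.1, (restrict_comp_iff @Flat j _ W hrange).2 hfin.2.1,
      (restrict_comp_iff @LocallyOfFinitePresentation j _ W hrange).2 hfin.2.2⟩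
  · obtain ⟨q, hq⟩ := hsurj x hx
    obtain ⟨p, rfl⟩ := hrange (show GrpdLib.srcMap G g q ∈ W by rw [hq]; exact hx)
    exact ⟨p, by rw [hj]; exact hq⟩
  · rcases E.eq_empty_or_nonempty with rfl | ⟨x₀, hx₀⟩
    · exact ⟨⊥, isAffineOpen_bot _, fun x hx => hx.elim⟩
    have hfinite : (U'.ι '' E).Finite := by
      haveI := hfin.1
      refine Set.Finite.subset ((((GrpdLib.srcMap G g ∣_ W).finite_preimage_singleton ⟨g' x₀, x₀.2⟩).image
        (GrpdLib.srcMap G g ⁻¹ᵁ W).ι).image (pullback.snd G.t g)) ?_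
      rintro _ ⟨y, hy, rfl⟩
      obtain ⟨r, hr₁, hr₂⟩ := hE y hy x₀ hx₀
      obtain ⟨p, hp₁, hp₂⟩ := Scheme.Pullback.exists_preimage_pullback (f := G.t) (g := g) r y.1 hr₁
      have hp : GrpdLib.srcMap G g p = g' x₀ := by
        show (pullback.fst G.t g ≫ G.s) p = _
        rw [Scheme.Hom.comp_apply, hp₁, hr₂]
      refine ⟨p, ⟨⟨p, show GrpdLib.srcMap G g p ∈ W by rw [hp]; exact x₀.2⟩, ?_, rfl⟩, hp₂⟩
      show (GrpdLib.srcMap G g ∣_ W) _ = _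
      rw [morphismRestrict_base]
      exact Subtype.ext hp
    obtain ⟨f, hf, hfU⟩ := GrpdLib.exists_basicOpen_of_finite (isAffineOpen_top Z) hfinite U'
      (Set.subset_univ _) (by rintro _ ⟨y, -, rfl⟩; exact y.2)
    exact ⟨U'.ι ⁻¹ᵁ Z.basicOpen f, ((isAffineOpen_top Z).basicOpen f).preimage_of_isOpenImmersion _
      (by rw [Scheme.Opens.opensRange_ι]; exact hfU), fun y hy => hf ⟨y, hy, rfl⟩⟩

theorem isImmersion_of_cover {X Y : Scheme.{u}} (f : X ⟶ Y) (W W₁ W₂ : Y.Opens) (hcov : W₁ ⊔ W₂ = W)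
    (hf : ∀ x, f x ∈ W) (h₁ : IsImmersion (f ∣_ W₁)) (h₂ : IsImmersion (f ∣_ W₂)) : IsImmersion f := by
  have hW : IsImmersion (f ∣_ W) := by
    refine IsZariskiLocalAtTarget.of_iSup_eq_top (P := @IsImmersion)
      (fun b : Bool => W.ι ⁻¹ᵁ bif b then W₁ else W₂) (top_le_iff.1 fun x _ => ?_) fun b => ?_
    · rcases hcov.ge x.2 with h | h
      · exact Opens.mem_iSup.2 ⟨true, h⟩
      · exact Opens.mem_iSup.2 ⟨false, h⟩
    · have hle : ∀ V : Y.Opens, V ≤ W → IsImmersion (f ∣_ V) → IsImmersion (f ∣_ W ∣_ (W.ι ⁻¹ᵁ V)) := by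
        intro V hVW hV
        have e : W.ι ''ᵁ (W.ι ⁻¹ᵁ V) = V := by
          rw [Scheme.Hom.image_preimage_eq_opensRange_inf, Scheme.Opens.opensRange_ι]
          exact inf_eq_right.2 hVW
        rw [MorphismProperty.arrow_mk_iso_iff @IsImmersion (morphismRestrictRestrict f W (W.ι ⁻¹ᵁ V)),
          MorphismProperty.arrow_mk_iso_iff @IsImmersion (morphismRestrictEq f e)]
        exact hV
      cases b
      · exact hle W₂ (le_sup_right.trans hcov.le) h₂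
      · exact hle W₁ (le_sup_left.trans hcov.le) h₁
  have htop : f ⁻¹ᵁ W = ⊤ := top_le_iff.1 fun x _ => hf x
  haveI : IsIso (f ⁻¹ᵁ W).ι := isIso_of_isOpenImmersion_of_opensRange_eq_top _
    (by rw [Scheme.Opens.opensRange_ι, htop])
  have : IsImmersion ((f ∣_ W) ≫ W.ι) := inferInstance
  rwa [morphismRestrict_ι, MorphismProperty.cancel_left_of_respectsIso @IsImmersion] at this

/-- Quasi-sections over disjoint invariant opens combine. -/
theorem QSec.nonempty_union {W₁ W₂ : G.U.Opens} (hW₁ : GrpdLib.IsInv G W₁) (hW₂ : GrpdLib.IsInv G W₂)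
    (hd : Disjoint (W₁ : Set G.U) W₂) (Q₁ : QSec G W₁) (Q₂ : QSec G W₂) : Nonempty (QSec G (W₁ ⊔ W₂)) := by
  haveI := Q₁.immersion
  haveI := Q₂.immersion
  let g := coprod.desc Q₁.g Q₂.g
  let inl : Q₁.U' ⟶ Q₁.U' ⨿ Q₂.U' := coprod.inl
  let inr : Q₂.U' ⟶ Q₁.U' ⨿ Q₂.U' := coprod.inr
  have e₁ : inl ≫ g = Q₁.g := coprod.inl_desc _ _
  have e₂ : inr ≫ g = Q₂.g := coprod.inr_desc _ _
  have hmem : ∀ z, (∃ x, inl x = z ∧ g z ∈ W₁) ∨ (∃ x, inr x = z ∧ g z ∈ W₂) := fun z => by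
    rcases (Set.eq_univ_iff_forall.1 (isCompl_range_inl_inr Q₁.U' Q₂.U').sup_eq_top z) with ⟨x, rfl⟩ | ⟨x, rfl⟩
    · exact Or.inl ⟨x, rfl, by rw [← Scheme.Hom.comp_apply, e₁]; exact Q₁.range_le x⟩
    · exact Or.inr ⟨x, rfl, by rw [← Scheme.Hom.comp_apply, e₂]; exact Q₂.range_le x⟩
  have hpre₁ : g ⁻¹' (W₁ : Set G.U) ⊆ Set.range inl := fun z hz => by
    rcases hmem z with ⟨x, hx, -⟩ | ⟨x, -, h⟩
    · exact ⟨x, hx⟩
    · exact (Set.disjoint_left.1 hd hz h).elim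
  have hpre₂ : g ⁻¹' (W₂ : Set G.U) ⊆ Set.range inr := fun z hz => by
    rcases hmem z with ⟨x, -, h⟩ | ⟨x, hx, -⟩
    · exact (Set.disjoint_left.1 hd h hz).elim
    · exact ⟨x, hx⟩
  -- the comparison on arrows
  have key : ∀ {V : Scheme.{u}} (ι : V ⟶ Q₁.U' ⨿ Q₂.U') [IsOpenImmersion ι] (W : G.U.Opens),
      GrpdLib.IsInv G W → g ⁻¹' (W : Set G.U) ⊆ Set.range ι → ∀ g₁ : V ⟶ G.U, ι ≫ g = g₁ →
      ∃ j : pullback G.t g₁ ⟶ pullback G.t g, IsOpenImmersion j ∧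
        j ≫ GrpdLib.srcMap G g = GrpdLib.srcMap G g₁ ∧
        GrpdLib.srcMap G g ⁻¹' (W : Set G.U) ⊆ Set.range j := by
    intro V ι _ W hW hpre g₁ e
    subst e
    obtain ⟨j, hj, hjf, -, hjr⟩ := exists_openImmersion_pullback G.t g ι
    exact ⟨j, hj, by simp only [GrpdLib.srcMap, reassoc_of% hjf],
      fun q hq => hjr q (hpre ((map_mem G hW g q).1 hq))⟩
  obtain ⟨j₁, _, hj₁, hr₁⟩ := key inl W₁ hW₁ hpre₁ _ e₁
  obtain ⟨j₂, _, hj₂, hr₂⟩ := key inr W₂ hW₂ hpre₂ _ e₂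
  refine ⟨⟨Q₁.U' ⨿ Q₂.U', g, ?_, fun z => ?_, ?_, fun x hx => ?_, fun E hE => ?_⟩⟩
  · refine isImmersion_of_cover g (W₁ ⊔ W₂) W₁ W₂ rfl (fun z => ?_) ?_ ?_
    · rcases hmem z with ⟨-, -, h⟩ | ⟨-, -, h⟩
      · exact Or.inl h
      · exact Or.inr h
    · rw [← restrict_comp_iff @IsImmersion inl g W₁ hpre₁, e₁]
      exact IsZariskiLocalAtTarget.restrict Q₁.immersion _
    · rw [← restrict_comp_iff @IsImmersion inr g W₂ hpre₂, e₂]
      exact IsZariskiLocalAtTarget.restrict Q₂.immersion _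
  · rcases hmem z with ⟨-, -, h⟩ | ⟨-, -, h⟩
    · exact Or.inl h
    · exact Or.inr h
  · have hP : ∀ (P : MorphismProperty Scheme.{u}) [IsZariskiLocalAtTarget P] [P.RespectsIso],
        P (GrpdLib.srcMap G Q₁.g ∣_ W₁) → P (GrpdLib.srcMap G Q₂.g ∣_ W₂) →
          P (GrpdLib.srcMap G g ∣_ (W₁ ⊔ W₂)) := by
      intro P _ _ h₁ h₂
      rw [← hj₁, restrict_comp_iff P j₁ _ W₁ hr₁] at h₁
      rw [← hj₂, restrict_comp_iff P j₂ _ W₂ hr₂] at h₂
      have hle : ∀ V : G.U.Opens, V ≤ W₁ ⊔ W₂ → P (GrpdLib.srcMap G g ∣_ V) →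
          P (GrpdLib.srcMap G g ∣_ (W₁ ⊔ W₂) ∣_ ((W₁ ⊔ W₂).ι ⁻¹ᵁ V)) := by
        intro V hVW hV
        have e : (W₁ ⊔ W₂).ι ''ᵁ ((W₁ ⊔ W₂).ι ⁻¹ᵁ V) = V := by
          rw [Scheme.Hom.image_preimage_eq_opensRange_inf, Scheme.Opens.opensRange_ι]
          exact inf_eq_right.2 hVW
        rw [MorphismProperty.arrow_mk_iso_iff P (morphismRestrictRestrict _ (W₁ ⊔ W₂) _),
          MorphismProperty.arrow_mk_iso_iff P (morphismRestrictEq _ e)]
        exact hV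
      refine IsZariskiLocalAtTarget.of_iSup_eq_top (P := P)
        (fun b : Bool => (W₁ ⊔ W₂).ι ⁻¹ᵁ bif b then W₁ else W₂) (top_le_iff.1 fun x _ => ?_) fun b => ?_
      · rcases x.2 with h | h
        · exact Opens.mem_iSup.2 ⟨true, h⟩
        · exact Opens.mem_iSup.2 ⟨false, h⟩
      · cases b
        · exact hle W₂ le_sup_right h₂
        · exact hle W₁ le_sup_left h₁
    exact ⟨hP @IsFinite Q₁.fin.1 Q₂.fin.1, hP @Flat Q₁.fin.2.1 Q₂.fin.2.1,
      hP @LocallyOfFinitePresentation Q₁.fin.2.2 Q₂.fin.2.2⟩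
  · rcases hx with h | h
    · obtain ⟨q, hq⟩ := Q₁.surj x h
      exact ⟨j₁ q, by rw [← Scheme.Hom.comp_apply, hj₁]; exact hq⟩
    · obtain ⟨q, hq⟩ := Q₂.surj x h
      exact ⟨j₂ q, by rw [← Scheme.Hom.comp_apply, hj₂]; exact hq⟩
  · rcases E.eq_empty_or_nonempty with rfl | ⟨x₀, hx₀⟩
    · exact ⟨⊥, isAffineOpen_bot _, fun x hx => hx.elim⟩
    have side : ∀ {V : Scheme.{u}} (ι : V ⟶ Q₁.U' ⨿ Q₂.U') [IsOpenImmersion ι] (W : G.U.Opens),
        GrpdLib.IsInv G W → g ⁻¹' (W : Set G.U) ⊆ Set.range ι → g x₀ ∈ W →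
        (∀ E' : Set V, (∀ x ∈ E', ∀ y ∈ E', ∃ r : G.R, G.t r = (ι ≫ g) x ∧ G.s r = (ι ≫ g) y) →
          ∃ A : V.Opens, IsAffineOpen A ∧ E' ⊆ (A : Set V)) →
        ∃ A : (Q₁.U' ⨿ Q₂.U').Opens, IsAffineOpen A ∧ E ⊆ (A : Set _) := by
      intro V ι _ W hW hpre hx hA
      obtain ⟨A, hA₁, hA₂⟩ := hA (ι ⁻¹' E) fun x hx y hy => by
        rw [Scheme.Hom.comp_apply, Scheme.Hom.comp_apply]
        exact hE _ hx _ hy
      refine ⟨ι ''ᵁ A, hA₁.image_of_isOpenImmersion ι, fun y hy => ?_⟩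
      obtain ⟨r, hr₁, hr₂⟩ := hE y hy x₀ hx₀
      obtain ⟨v, rfl⟩ := hpre (show g y ∈ W from hr₁ ▸ (hW.mem_iff r).1 (hr₂ ▸ hx))
      exact ⟨v, hA₂ hy, rfl⟩
    rcases hmem x₀ with ⟨-, -, h⟩ | ⟨-, -, h⟩
    · exact side inl W₁ hW₁ hpre₁ h (e₁.symm ▸ Q₁.aff)
    · exact side inr W₂ hW₂ hpre₂ h (e₂.symm ▸ Q₂.aff)

end Groth.Agent.GrpdGen
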