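import Groth.Agent.GrpdGen.Dense
import Groth.Agent.GrpdGen.ArtinTate
import Groth.Agent.S4087
import Groth.Agent.GrpdFld.SubGrpd

/-!
# The quotient of a dense saturated open
-/

set_option autoImplicit false
set_option backward.isDefEq.respectTransparency false
set_option backward.isDefEq.respectTransparency.types false
set_option linter.style.haveILetI false
set_option linter.unusedSectionVars false

universe u

open AlgebraicGeometry CategoryTheory CategoryTheory.Limits Grpd TopologicalSpace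

namespace Groth.Agent.GrpdGen

theorem lft_quotScheme {S : Scheme.{u}} [IsLocallyNoetherian S] {B : Scheme.{u}} (G : GroupoidScheme B)
    [IsFinite G.s] [Flat G.s] [LocallyOfFinitePresentation G.s] (hc : ∀ x : G.U, ∃ j : GrpdLib.InvAff G, x ∈ j.1)
    {p : G.U ⟶ GrpdLib.quotScheme G} (hp : ∀ j : GrpdLib.InvAff G, j.1.ι ≫ p = j.π ≫ GrpdLib.InvAff.inc G j)
    (π : GrpdLib.quotScheme G ⟶ S) (h : LocallyOfFiniteType (p ≫ π)) : LocallyOfFiniteType π := by
  refine IsZariskiLocalAtSource.of_openCover (P := @LocallyOfFiniteType)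
    (Scheme.IsLocallyDirected.openCover (GrpdLib.quotDiagram G)) fun (j : GrpdLib.InvAff G) => ?_
  show LocallyOfFiniteType (GrpdLib.InvAff.inc G j ≫ π)
  have h1 : LocallyOfFiniteType (j.π ≫ GrpdLib.InvAff.inc G j ≫ π) := by
    rw [← Category.assoc, ← hp j, Category.assoc]
    haveI := h
    infer_instance
  haveI : IsAffine j.grp.U := j.2.1
  rw [show j.π = j.grp.toQuot from rfl, GrpdLib.isoSpec_hom_toQuot, Category.assoc,
    MorphismProperty.cancel_left_of_respectsIso @LocallyOfFiniteType] at h1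
  exact locallyOfFiniteType_of_injective_integral (CommRingCat.ofHom j.grp.invariants.subtype)
    Subtype.val_injective (fun a => (GrpdLib.isIntegral_invariants j.grp).isIntegral a) _ h1

/-- A coequalizer coming from a quasi-section is locally of finite type. -/
theorem lft_of_quasiSection {S : Scheme.{u}} [IsLocallyNoetherian S] {B : Scheme.{u}} (G : GroupoidScheme B)
    {U' : Scheme.{u}} (u : U' ⟶ G.U)
    (h1 : Mor2.IsFinLocFree (GrpdLib.srcMap G u) ∧ Surjective (GrpdLib.srcMap G u))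
    (h2 : ∀ E : Set U', (∀ x ∈ E, ∀ y ∈ E, ∃ r : G.R, G.t.base r = u.base x ∧ G.s.base r = u.base y) →
      ∃ W : U'.Opens, IsAffineOpen W ∧ E ⊆ (W : Set U'))
    {Y : Scheme.{u}} {p : G.U ⟶ Y} {w : G.t ≫ p = G.s ≫ p} (hY : IsColimit (Cofork.ofπ p w)) (π : Y ⟶ S)
    (h : LocallyOfFiniteType (u ≫ p ≫ π)) : LocallyOfFiniteType π := by
  obtain ⟨⟨i₁, i₂, i₃⟩, i₄⟩ := h1
  let G' := GrpdLib.pullBackGrpd G u
  have : IsFinite G'.s := inferInstanceAs (IsFinite (pullback.snd (GrpdLib.srcMap G u) u))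
  have : Flat G'.s := inferInstanceAs (Flat (pullback.snd (GrpdLib.srcMap G u) u))
  have : LocallyOfFinitePresentation G'.s :=
    inferInstanceAs (LocallyOfFinitePresentation (pullback.snd (GrpdLib.srcMap G u) u))
  have hb : ∀ x : G'.U, ∃ V : G'.U.Opens, IsAffineOpen V ∧ G'.t.base '' (G'.s.base ⁻¹' {x}) ⊆ (V : Set G'.U) := by
    intro x
    refine h2 _ ?_
    rintro _ ⟨r₁, hr₁, rfl⟩ _ ⟨r₂, hr₂, rfl⟩
    have hr₁' : G'.s r₁ = x := hr₁
    have hr₂' : G'.s r₂ = x := hr₂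
    obtain ⟨r, ht, hs⟩ := GrpdLib.exists_comp G' r₁ (G'.i r₂) (by
      rw [← Scheme.Hom.comp_apply, G'.i_t, hr₁', hr₂'])
    rw [← Scheme.Hom.comp_apply, G'.i_s] at hs
    refine ⟨GrpdLib.pbMid G u r, ?_, ?_⟩
    · show G.t (GrpdLib.pbMid G u r) = u (G'.t r₁)
      rw [← Scheme.Hom.comp_apply, GrpdLib.pbMid_t, Scheme.Hom.comp_apply]
      exact congrArg u ht
    · show G.s (GrpdLib.pbMid G u r) = u (G'.t r₂)
      rw [← Scheme.Hom.comp_apply, GrpdLib.pbMid_s, Scheme.Hom.comp_apply]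
      exact congrArg u hs
  have hc := GrpdLib.exists_invAff hb
  obtain ⟨q, hq⟩ := GrpdLib.exists_quotMap G' hc
  have wq : GrpdLib.pbT G u ≫ q = GrpdLib.pbS G u ≫ q := GrpdLib.quotMap_w hq hc
  obtain ⟨p₀, hp₀, hup⟩ := GrpdLib.exists_descend wq
  obtain ⟨hcol⟩ := GrpdLib.exists_isColimit_quotMap hq hc (GrpdLib.quotMap_w hq hc)
  obtain ⟨hc₀⟩ := GrpdLib.isColimit_desc wq hp₀ hup hcol (GrpdLib.desc_w hp₀)
  let e := hc₀.coconePointUniqueUpToIso hY
  have he : p₀ ≫ e.hom = p := hc₀.comp_coconePointUniqueUpToIso_hom hY WalkingParallelPair.one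
  have hq' : LocallyOfFiniteType (q ≫ e.hom ≫ π) := by
    have e1 : q ≫ e.hom ≫ π = u ≫ p ≫ π :=
      (congrArg (· ≫ e.hom ≫ π) hup.symm).trans (by rw [Category.assoc, reassoc_of% he])
    rw [e1]; exact h
  have h3 : LocallyOfFiniteType (e.hom ≫ π) := lft_quotScheme G' hc hq _ hq'
  exact (MorphismProperty.cancel_left_of_respectsIso @LocallyOfFiniteType e.hom π).1 h3

theorem isPullback_restrict_t {S : Scheme.{u}} (G : GroupoidScheme S) (W : G.U.Opens) (hW : GrpdLib.IsInv G W) :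
    IsPullback (G.s ⁻¹ᵁ W).ι (GrpdLib.resT G W hW) G.t W.ι := by
  have key : ∀ (V : G.R.Opens) (h : V = G.t ⁻¹ᵁ W), IsPullback V.ι (G.t.resLE W V h.le) G.t W.ι := by
    rintro V rfl
    rw [Scheme.Hom.resLE_eq_morphismRestrict]
    exact (isPullback_morphismRestrict G.t W).flip
  exact key _ hW

/-- Generic quotients of noetherian groupoids with finite stabilizers. -/
theorem exists_dense_quotient {S : Scheme.{u}} [IsNoetherian S] (G : GroupoidScheme S)
    [Flat G.s] [LocallyOfFiniteType G.s] [QuasiCompact G.s] [LocallyOfFiniteType G.pU] [QuasiCompact G.pU]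
    [LocallyQuasiFinite G.j] :
    ∃ (W : G.U.Opens) (hW : G.t ⁻¹ᵁ W = G.s ⁻¹ᵁ W), Dense (W : Set G.U) ∧
      ∃ (V : Scheme.{u}) (p : (W : Scheme.{u}) ⟶ V)
        (w : G.t.resLE W (G.s ⁻¹ᵁ W) hW.ge ≫ p = (G.s ∣_ W) ≫ p) (q : V ⟶ S),
        Nonempty (IsColimit (Cofork.ofπ p w)) ∧ p ≫ q = W.ι ≫ G.pU ∧
        Surjective p ∧ IsOpenMap p.base ∧ LocallyOfFinitePresentation p ∧
        LocallyOfFinitePresentation q ∧ QuasiCompact q ∧ QuasiSeparated q ∧
        Function.Surjective (pullback.lift (G.t.resLE W (G.s ⁻¹ᵁ W) hW.ge) (G.s ∣_ W) w).base ∧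
        (Mono G.j → IsPullback (G.t.resLE W (G.s ⁻¹ᵁ W) hW.ge) (G.s ∣_ W) p p ∧ Flat p) := by
  haveI : IsLocallyNoetherian G.U := LocallyOfFiniteType.isLocallyNoetherian G.pU
  haveI : CompactSpace G.U := QuasiCompact.compactSpace_of_compactSpace G.pU
  haveI : IsNoetherian G.U := {}
  haveI : IsLocallyNoetherian G.R := LocallyOfFiniteType.isLocallyNoetherian G.s
  haveI : CompactSpace G.R := QuasiCompact.compactSpace_of_compactSpace G.s
  haveI : IsNoetherian G.R := {}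
  haveI : LocallyOfFinitePresentation G.s := LocallyOfFinitePresentation.iff_locallyOfFiniteType.2 inferInstance
  haveI := isIso_i G
  haveI : Flat G.t := by rw [← G.i_s]; infer_instance
  haveI : LocallyOfFinitePresentation G.t := by rw [← G.i_s]; infer_instance
  obtain ⟨W, hW, hd, ⟨Q⟩⟩ := exists_dense_qSec G
  let GW := GrpdLib.restrict G W hW
  haveI := Q.immersion
  let u' : Q.U' ⟶ GW.U := IsOpenImmersion.lift W.ι Q.g (by
    rintro _ ⟨x, rfl⟩; exact ⟨⟨_, Q.range_le x⟩, rfl⟩)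
  have hu' : u' ≫ W.ι = Q.g := IsOpenImmersion.lift_fac ..
  haveI : IsImmersion (u' ≫ W.ι) := hu'.symm ▸ Q.immersion
  haveI : IsImmersion u' := IsImmersion.of_comp u' W.ι
  have ht := isPullback_restrict_t G W hW
  -- compare the two source maps
  let φ : pullback GW.t u' ≅ pullback G.t Q.g :=
    ((IsPullback.of_hasPullback GW.t u').paste_horiz ht).isoPullback ≪≫ pullback.congrHom rfl hu'
  have hφf : φ.hom ≫ pullback.fst G.t Q.g = pullback.fst GW.t u' ≫ (G.s ⁻¹ᵁ W).ι := by simp [φ]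
  have hφ : φ.hom ≫ GrpdLib.srcMap G Q.g = GrpdLib.srcMap GW u' ≫ W.ι := by
    simp only [GrpdLib.srcMap, reassoc_of% hφf, Category.assoc]
    rw [show GW.s = GrpdLib.resS G W from rfl, GrpdLib.resS_ι]
  have htop : GrpdLib.srcMap G Q.g ⁻¹ᵁ W = ⊤ := top_le_iff.1 fun q _ => (map_mem G hW Q.g q).2 (Q.range_le _)
  haveI : IsIso (GrpdLib.srcMap G Q.g ⁻¹ᵁ W).ι := isIso_of_isOpenImmersion_of_opensRange_eq_top _
    (by rw [Scheme.Opens.opensRange_ι, htop])
  have hsm : GrpdLib.srcMap GW u' =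
      (φ ≪≫ (asIso (GrpdLib.srcMap G Q.g ⁻¹ᵁ W).ι).symm).hom ≫ (GrpdLib.srcMap G Q.g ∣_ W) := by
    rw [← cancel_mono W.ι, Category.assoc, morphismRestrict_ι, ← hφ]
    simp
  have h1 : Mor2.IsFinLocFree (GrpdLib.srcMap GW u') ∧ Surjective (GrpdLib.srcMap GW u') := by
    refine ⟨?_, ⟨fun x => ?_⟩⟩
    · rw [hsm]
      exact ⟨(MorphismProperty.cancel_left_of_respectsIso @IsFinite _ _).2 Q.fin.1,
        (MorphismProperty.cancel_left_of_respectsIso @Flat _ _).2 Q.fin.2.1,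
        (MorphismProperty.cancel_left_of_respectsIso @LocallyOfFinitePresentation _ _).2 Q.fin.2.2⟩
    · obtain ⟨q, hq⟩ := Q.surj x.1 x.2
      refine ⟨φ.inv q, W.ι.isOpenEmbedding.injective ?_⟩
      have e2 : φ.inv ≫ GrpdLib.srcMap GW u' ≫ W.ι = GrpdLib.srcMap G Q.g := by
        rw [← hφ, Iso.inv_hom_id_assoc]
      exact (congrArg (fun f => f q) e2).trans hq
  have h2 : ∀ E : Set Q.U', (∀ x ∈ E, ∀ y ∈ E, ∃ r : GW.R, GW.t.base r = u'.base x ∧ GW.s.base r = u'.base y) →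
      ∃ A : Q.U'.Opens, IsAffineOpen A ∧ E ⊆ (A : Set Q.U') := fun E hE => Q.aff E fun x hx y hy => by
    obtain ⟨r, hr₁, hr₂⟩ := hE x hx y hy
    refine ⟨r.1, ?_, ?_⟩
    · have := (congrArg (fun φ => φ r) (GrpdLib.resT_ι G W hW)).symm
      refine (this.trans (congrArg W.ι hr₁)).trans ?_
      exact congrArg (fun φ => φ x) hu'
    · have := (congrArg (fun φ => φ r) (GrpdLib.resS_ι G W)).symm
      refine (this.trans (congrArg W.ι hr₂)).trans ?_
      exact congrArg (fun φ => φ y) hu'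
  obtain ⟨V, p, w, ⟨hcol⟩, hsurj, hopen, -, hlift, hmono⟩ := S4087.result S GW Q.U' u' h1 h2
  have hw : GW.t ≫ W.ι ≫ G.pU = GW.s ≫ W.ι ≫ G.pU := by
    rw [show GW.t = GrpdLib.resT G W hW from rfl, show GW.s = GrpdLib.resS G W from rfl,
      reassoc_of% (GrpdLib.resT_ι G W hW), reassoc_of% (GrpdLib.resS_ι G W), G.t_over, G.s_over]
  obtain ⟨q, hq⟩ := Cofork.IsColimit.desc' hcol (W.ι ≫ G.pU) hw
  replace hq : p ≫ q = W.ι ≫ G.pU := hq
  haveI : Flat GW.t := MorphismProperty.of_isPullback (P := @Flat) ht inferInstance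
  haveI : LocallyOfFinitePresentation GW.t :=
    MorphismProperty.of_isPullback (P := @LocallyOfFinitePresentation) ht inferInstance
  haveI hqft : LocallyOfFiniteType q := lft_of_quasiSection GW u' h1 h2 hcol q (by
    rw [hq, reassoc_of% hu']; infer_instance)
  haveI : IsLocallyNoetherian V := LocallyOfFiniteType.isLocallyNoetherian q
  haveI := hsurj
  haveI : LocallyOfFiniteType (p ≫ q) := by rw [hq]; infer_instance
  haveI : LocallyOfFiniteType p := locallyOfFiniteType_of_comp p q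
  haveI : QuasiCompact (p ≫ q) := by rw [hq]; infer_instance
  haveI : CompactSpace ↥GW.U := isCompact_iff_compactSpace.1 (NoetherianSpace.isCompact _)
  haveI : CompactSpace ↥V := ⟨by rw [← hsurj.surj.range_eq]; exact isCompact_range p.continuous⟩
  haveI : IsNoetherian V := {}
  refine ⟨W, hW.symm, hd, V, p, w, q, ⟨hcol⟩, hq, hsurj, hopen GW.t.isOpenMap,
    LocallyOfFinitePresentation.iff_locallyOfFiniteType.2 inferInstance,
    LocallyOfFinitePresentation.iff_locallyOfFiniteType.2 inferInstance, inferInstance,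
    inferInstance, hlift, fun hm => ?_⟩
  have : Mono GW.j := GrpdLib.mono_j_restrict G W hW
  obtain ⟨h3, h4⟩ := hmono this
  exact ⟨h3, h4 inferInstance⟩

end Groth.Agent.GrpdGen
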