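import Groth.Agent.GrpdGen.FlatStab
import Groth.Agent.AlgSpLib.Descends
import Groth.Agent.FlatMisc.GenFlat

/-!
# Generic quotients over a reduced scheme of objects
-/

set_option autoImplicit false
set_option backward.isDefEq.respectTransparency false
set_option backward.isDefEq.respectTransparency.types false
set_option linter.style.haveILetI false
set_option linter.unusedSectionVars false

universe u

open AlgebraicGeometry CategoryTheory CategoryTheory.Limits Grpd TopologicalSpace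

namespace Groth.Agent.GrpdGen

variable {S : Scheme.{u}} (G : GroupoidScheme S)

theorem flat_snd_comp {X Y A B : Scheme.{u}} {f : X ⟶ Y} {g : B ⟶ Y} (g' : A ⟶ B)
    (h : Flat (pullback.snd (pullback.snd f g) g')) : Flat (pullback.snd f (g' ≫ g)) := by
  rwa [← pullbackLeftPullbackSndIso_hom_snd f g g',
    MorphismProperty.cancel_left_of_respectsIso @Flat] at h

theorem flat_snd_of_comp {X Y A B : Scheme.{u}} {f : X ⟶ Y} {g : B ⟶ Y} (g' : A ⟶ B)
    (h : Flat (pullback.snd f (g' ≫ g))) : Flat (pullback.snd (pullback.snd f g) g') := by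
  rwa [← pullbackLeftPullbackSndIso_hom_snd f g g', MorphismProperty.cancel_left_of_respectsIso @Flat]

variable [Flat G.t] [LocallyOfFinitePresentation G.t] [QuasiCompact G.t] [IsLocallyNoetherian G.R]
  [CompactSpace G.R]

/-- Flatness of the stabilizer over an open spreads to its saturation. -/
theorem flat_stabilizer_sat (W₀ : G.U.Opens) (ht : IsOpenMap G.t) (h : Flat (G.stabilizerToU ∣_ W₀)) :
    Flat (pullback.snd G.stabilizerToU (satOpen G ht W₀).ι) := by
  replace h : Flat (pullback.snd G.stabilizerToU W₀.ι) :=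
    (MorphismProperty.cancel_left_of_respectsIso @Flat (pullbackRestrictIsoRestrict _ W₀).inv _).1 h
  obtain ⟨a, b, ha, hb⟩ := GrpdLib.exists_stabilizer_pullbacks G
  let W := satOpen G ht W₀
  let A : G.R.Opens := G.s ⁻¹ᵁ W₀
  let tW : A.toScheme ⟶ W.toScheme := G.t.resLE W A fun r hr => ⟨r, hr, rfl⟩
  have htW : tW ≫ W.ι = A.ι ≫ G.t := Scheme.Hom.resLE_comp_ι _ _
  have hs : (G.s ∣_ W₀) ≫ W₀.ι = A.ι ≫ G.s := morphismRestrict_ι _ _
  have h1 : Flat (pullback.snd G.stabilizerToU (A.ι ≫ G.s)) := by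
    rw [← hs]
    exact flat_snd_comp _ (MorphismProperty.pullback_snd (P := @Flat) _ _ h)
  let m := pullback.snd G.stabilizerToU G.s
  have h1' : Flat (pullback.snd m A.ι) := flat_snd_of_comp _ h1
  have hb' := (IsPullback.of_hasPullback m A.ι).paste_horiz hb
  have h2 : Flat (pullback.snd G.stabilizerToU (A.ι ≫ G.t)) := by
    rw [← hb'.isoPullback_inv_snd]
    infer_instance
  rw [← htW] at h2
  haveI : Surjective tW := ⟨fun x => by
    obtain ⟨r, hr, e⟩ := x.2
    exact ⟨⟨r, hr⟩, W.ι.isOpenEmbedding.injective (by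
      rw [← Scheme.Hom.comp_apply, htW, Scheme.Hom.comp_apply]; exact e)⟩⟩
  haveI : Flat tW := MorphismProperty.of_postcomp (W := @Flat) (W' := @IsOpenImmersion) _ W.ι inferInstance
    (by rw [htW]; infer_instance)
  haveI : QuasiCompact (tW ≫ W.ι) := by rw [htW]; infer_instance
  haveI : QuasiCompact tW := QuasiCompact.of_comp _ W.ι
  haveI : MorphismProperty.DescendsAlong @Flat (@Surjective ⊓ @Flat ⊓ @QuasiCompact : MorphismProperty Scheme.{u}) :=
    HasRingHomProperty.descendsAlong_flat AlgSpLib.flat_codescendsAlong_faithfullyFlat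
  exact MorphismProperty.of_pullback_snd_of_descendsAlong
    (Q := (@Surjective ⊓ @Flat ⊓ @QuasiCompact : MorphismProperty Scheme.{u}))
    ⟨⟨inferInstance, inferInstance⟩, inferInstance⟩ (flat_snd_of_comp _ h2)

/-- The stabilizer of a restriction. -/
theorem exists_isPullback_stabilizer_restrict (W : G.U.Opens) (hW : GrpdLib.IsInv G W) :
    ∃ f, IsPullback f (GrpdLib.restrict G W hW).stabilizerToU G.stabilizerToU W.ι := by
  let D := GrpdLib.restrict G W hW
  let x : D.stabilizer ⟶ G.R := GrpdLib.stabι D ≫ (G.s ⁻¹ᵁ W).ι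
  have hxt : x ≫ G.t = D.stabilizerToU ≫ W.ι := by
    rw [← GrpdLib.stabι_t D, Category.assoc, show D.t = GrpdLib.resT G W hW from rfl, Category.assoc,
      GrpdLib.resT_ι]
  have hxs : x ≫ G.s = D.stabilizerToU ≫ W.ι := by
    rw [← GrpdLib.stabι_s D, Category.assoc, show D.s = GrpdLib.resS G W from rfl, Category.assoc,
      GrpdLib.resS_ι]
  obtain ⟨f, hf₁, hf₂⟩ := GrpdLib.exists_stab_lift G x (hxt.trans hxs.symm)
  have key : ∀ c : PullbackCone G.stabilizerToU W.ι, ∃ z, z ≫ f = c.fst ∧ z ≫ D.stabilizerToU = c.snd := by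
    intro c
    have ht : (c.fst ≫ GrpdLib.stabι G) ≫ G.t = c.snd ≫ W.ι := by
      rw [Category.assoc, GrpdLib.stabι_t]; exact c.condition
    have hs : (c.fst ≫ GrpdLib.stabι G) ≫ G.s = c.snd ≫ W.ι := by
      rw [Category.assoc, GrpdLib.stabι_s]; exact c.condition
    let y : c.pt ⟶ (G.s ⁻¹ᵁ W).toScheme := IsOpenImmersion.lift (G.s ⁻¹ᵁ W).ι (c.fst ≫ GrpdLib.stabι G) (by
      rintro _ ⟨p, rfl⟩
      refine ⟨⟨_, ?_⟩, rfl⟩
      show G.s ((c.fst ≫ GrpdLib.stabι G) p) ∈ W
      rw [← Scheme.Hom.comp_apply, hs]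
      exact (c.snd p).2)
    have hy : y ≫ (G.s ⁻¹ᵁ W).ι = c.fst ≫ GrpdLib.stabι G := IsOpenImmersion.lift_fac ..
    have hyt : y ≫ GrpdLib.resT G W hW = c.snd := by
      rw [← cancel_mono W.ι, Category.assoc, GrpdLib.resT_ι, reassoc_of% hy]
      simpa [Category.assoc] using ht
    have hys : y ≫ GrpdLib.resS G W = c.snd := by
      rw [← cancel_mono W.ι, Category.assoc, GrpdLib.resS_ι, reassoc_of% hy]
      simpa [Category.assoc] using hs
    obtain ⟨z, hz₁, hz₂⟩ := GrpdLib.exists_stab_lift D y (hyt.trans hys.symm)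
    refine ⟨z, GrpdLib.stab_ext G ?_, hz₂.trans hyt⟩
    rw [Category.assoc, hf₁, reassoc_of% hz₁, hy]
  choose l hl₁ hl₂ using key
  refine ⟨f, ⟨hf₂.trans hxt⟩, ⟨PullbackCone.IsLimit.mk _ l hl₁ hl₂ fun c m hm₁ hm₂ => ?_⟩⟩
  refine GrpdLib.stab_ext D ((cancel_mono (G.s ⁻¹ᵁ W).ι).1 ?_)
  have := congrArg (· ≫ GrpdLib.stabι G) (hm₁.trans (hl₁ c).symm)
  simp only [Category.assoc, hf₁] at this
  simpa [x, Category.assoc] using this

end Groth.Agent.GrpdGen
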