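import Groth.Agent.GrpdGen.Quotient
import Groth.Agent.GrpdLib.StabTorsor
import Groth.Agent.AlgStLib.MonoFactor
import Groth.Agent.SrcDescent.SchemeFppf
import Groth.Agent.SrcDescent.SmoothFppf

/-!
# The equivalence relation of a groupoid with flat stabilizer
-/

set_option autoImplicit false
set_option backward.isDefEq.respectTransparency false
set_option backward.isDefEq.respectTransparency.types false
set_option linter.style.haveILetI false
set_option linter.unusedSectionVars false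

universe u

open AlgebraicGeometry CategoryTheory CategoryTheory.Limits Grpd

namespace Groth.Agent.GrpdGen

variable {S : Scheme.{u}} (G : GroupoidScheme S)

theorem flat_fst_j_j [Flat G.stabilizerToU] : Flat (pullback.fst G.j G.j) := by
  let αs : pullback G.stabilizerToU G.s ⟶ pullback G.s G.t :=
    pullback.lift (pullback.snd G.stabilizerToU G.s) (pullback.fst G.stabilizerToU G.s ≫ GrpdLib.stabι G)
      (by rw [Category.assoc, GrpdLib.stabι_t, pullback.condition])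
  have hs := GrpdLib.isPullback_stab_s G αs (pullback.lift_fst ..) (pullback.lift_snd ..)
  haveI : Flat (pullback.snd G.stabilizerToU G.s) := inferInstance
  haveI : Flat (pullback.snd G.j G.j) := by
    rw [← hs.isoPullback_inv_snd]; infer_instance
  rw [← pullbackSymmetry_hom_comp_snd]; infer_instance

noncomputable section

variable {Y : Scheme.{u}} (ψ : G.R ⟶ Y) (τ : Y ⟶ pullback G.pU G.pU)

/-- The source of the relation. -/
abbrev relS : Y ⟶ G.U := τ ≫ pullback.snd G.pU G.pU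

/-- The target of the relation. -/
abbrev relT : Y ⟶ G.U := τ ≫ pullback.fst G.pU G.pU

theorem ψ_relS (hτ : ψ ≫ τ = G.j) : ψ ≫ relS G τ = G.s := by
  rw [reassoc_of% hτ]; exact GrpdLib.j_snd G

theorem ψ_relT (hτ : ψ ≫ τ = G.j) : ψ ≫ relT G τ = G.t := by
  rw [reassoc_of% hτ]; exact GrpdLib.j_fst G

theorem rel_ext [Mono τ] {T : Scheme.{u}} {a b : T ⟶ Y} (h₁ : a ≫ relT G τ = b ≫ relT G τ)
    (h₂ : a ≫ relS G τ = b ≫ relS G τ) : a = b :=
  (cancel_mono τ).1 (pullback.hom_ext (by simpa using h₁) (by simpa using h₂))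

variable [Mono τ] [Surjective ψ] [Flat ψ] [LocallyOfFinitePresentation ψ] [QuasiCompact ψ] (hτ : ψ ≫ τ = G.j)

include hτ in
theorem relI_aux {T : Scheme.{u}} (a b : T ⟶ G.R) (h : a ≫ ψ = b ≫ ψ) :
    a ≫ G.i ≫ ψ = b ≫ G.i ≫ ψ := by
  have h₁ := congrArg (· ≫ relT G τ) h
  have h₂ := congrArg (· ≫ relS G τ) h
  simp only [Category.assoc] at h₁ h₂
  rw [ψ_relT G ψ τ hτ] at h₁
  rw [ψ_relS G ψ τ hτ] at h₂
  refine rel_ext G τ ?_ ?_ <;> simp only [Category.assoc]
  · rw [ψ_relT G ψ τ hτ, G.i_t, h₂]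
  · rw [ψ_relS G ψ τ hτ, G.i_s, h₁]

/-- The inverse of the relation. -/
def relI : Y ⟶ Y :=
  EffectiveEpi.desc ψ (G.i ≫ ψ) fun a b h => relI_aux G ψ τ hτ a b h

theorem ψ_relI : ψ ≫ relI G ψ τ hτ = G.i ≫ ψ := by exact EffectiveEpi.fac ψ (G.i ≫ ψ) fun a b h => relI_aux G ψ τ hτ a b h

/-- The map of composable pairs. -/
def relPair : pullback G.s G.t ⟶ pullback (relS G τ) (relT G τ) :=
  pullback.map G.s G.t (relS G τ) (relT G τ) ψ ψ (𝟙 _) (by rw [Category.comp_id, ψ_relS G ψ τ hτ])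
    (by rw [Category.comp_id, ψ_relT G ψ τ hτ])

instance : Surjective (relPair G ψ τ hτ) :=
  MorphismProperty.pullbackMap (P := @Surjective) ‹_› ‹_› (e₁ := (ψ_relS G ψ τ hτ).symm) (e₂ := (ψ_relT G ψ τ hτ).symm)

instance : Flat (relPair G ψ τ hτ) :=
  MorphismProperty.pullbackMap (P := @Flat) ‹_› ‹_› (e₁ := (ψ_relS G ψ τ hτ).symm) (e₂ := (ψ_relT G ψ τ hτ).symm)

instance : QuasiCompact (relPair G ψ τ hτ) :=
  MorphismProperty.pullbackMap (P := @QuasiCompact) ‹_› ‹_› (e₁ := (ψ_relS G ψ τ hτ).symm) (e₂ := (ψ_relT G ψ τ hτ).symm)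

theorem relPair_fst : relPair G ψ τ hτ ≫ pullback.fst _ _ = pullback.fst G.s G.t ≫ ψ := pullback.lift_fst ..

theorem relPair_snd : relPair G ψ τ hτ ≫ pullback.snd _ _ = pullback.snd G.s G.t ≫ ψ := pullback.lift_snd ..

theorem relC_aux {T : Scheme.{u}} (a b : T ⟶ pullback G.s G.t) (h : a ≫ (relPair G ψ τ hτ) = b ≫ (relPair G ψ τ hτ)) :
    a ≫ G.c ≫ ψ = b ≫ G.c ≫ ψ := by
  have h₁ := congrArg (· ≫ pullback.fst _ _ ≫ relT G τ) h
  have h₂ := congrArg (· ≫ pullback.snd _ _ ≫ relS G τ) h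
  simp only [Category.assoc] at h₁ h₂
  rw [reassoc_of% relPair_fst G ψ τ hτ, ψ_relT G ψ τ hτ] at h₁
  rw [reassoc_of% relPair_snd G ψ τ hτ, ψ_relS G ψ τ hτ] at h₂
  refine rel_ext G τ ?_ ?_ <;> simp only [Category.assoc]
  · rw [ψ_relT G ψ τ hτ, GrpdLib.c_t, h₁]
  · rw [ψ_relS G ψ τ hτ, GrpdLib.c_s, h₂]

/-- The composition of the relation. -/
def relC : pullback (relS G τ) (relT G τ) ⟶ Y :=
  EffectiveEpi.desc (relPair G ψ τ hτ) (G.c ≫ ψ) fun a b h => relC_aux G ψ τ hτ a b h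

theorem relPair_relC : relPair G ψ τ hτ ≫ relC G ψ τ hτ = G.c ≫ ψ := by
  exact EffectiveEpi.fac (relPair G ψ τ hτ) (G.c ≫ ψ) fun a b h => relC_aux G ψ τ hτ a b h

theorem relI_s : relI G ψ τ hτ ≫ relS G τ = relT G τ := by
  rw [← cancel_epi ψ, reassoc_of% ψ_relI G ψ τ hτ, ψ_relS G ψ τ hτ, ψ_relT G ψ τ hτ, G.i_s]

theorem relI_t : relI G ψ τ hτ ≫ relT G τ = relS G τ := by
  rw [← cancel_epi ψ, reassoc_of% ψ_relI G ψ τ hτ, ψ_relS G ψ τ hτ, ψ_relT G ψ τ hτ, G.i_t]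

theorem relC_s {T : Scheme.{u}} (α β : T ⟶ Y) (h : α ≫ relS G τ = β ≫ relT G τ) :
    (pullback.lift α β h ≫ relC G ψ τ hτ) ≫ relS G τ = β ≫ relS G τ := by
  have hc : relC G ψ τ hτ ≫ relS G τ = pullback.snd _ _ ≫ relS G τ := by
    rw [← cancel_epi (relPair G ψ τ hτ), reassoc_of% relPair_relC G ψ τ hτ,
      reassoc_of% relPair_snd G ψ τ hτ, ψ_relS G ψ τ hτ, GrpdLib.c_s]
  rw [Category.assoc, hc, pullback.lift_snd_assoc]

theorem relC_t {T : Scheme.{u}} (α β : T ⟶ Y) (h : α ≫ relS G τ = β ≫ relT G τ) :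
    (pullback.lift α β h ≫ relC G ψ τ hτ) ≫ relT G τ = α ≫ relT G τ := by
  have hc : relC G ψ τ hτ ≫ relT G τ = pullback.fst _ _ ≫ relT G τ := by
    rw [← cancel_epi (relPair G ψ τ hτ), reassoc_of% relPair_relC G ψ τ hτ,
      reassoc_of% relPair_fst G ψ τ hτ, ψ_relT G ψ τ hτ, GrpdLib.c_t]
  rw [Category.assoc, hc, pullback.lift_fst_assoc]

include hτ in
theorem relE_s : (G.e ≫ ψ) ≫ relS G τ = 𝟙 _ := by rw [Category.assoc, ψ_relS G ψ τ hτ, G.e_s]

include hτ in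
theorem relE_t : (G.e ≫ ψ) ≫ relT G τ = 𝟙 _ := by rw [Category.assoc, ψ_relT G ψ τ hτ, G.e_t]

/-- The groupoid of the relation. -/
def relGrpd : GroupoidScheme S where
  U := G.U
  R := Y
  pU := G.pU
  pR := relS G τ ≫ G.pU
  s := relS G τ
  t := relT G τ
  e := G.e ≫ ψ
  i := relI G ψ τ hτ
  c := relC G ψ τ hτ
  s_over := rfl
  t_over := by simp only [Category.assoc, pullback.condition]
  comp_s := relC_s G ψ τ hτ
  comp_t := relC_t G ψ τ hτ
  assoc α β γ h₁ h₂ := rel_ext G τ (by simp only [relC_t]) (by simp only [relC_s])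
  e_s := relE_s G ψ τ hτ
  e_t := relE_t G ψ τ hτ
  comp_e α := rel_ext G τ (relC_t G ψ τ hτ _ _ _)
    (by rw [relC_s, Category.assoc, Category.assoc, relE_s G ψ τ hτ, Category.comp_id])
  e_comp α := rel_ext G τ (by rw [relC_t, Category.assoc, Category.assoc, relE_t G ψ τ hτ, Category.comp_id])
    (relC_s G ψ τ hτ _ _ _)
  i_s := relI_s G ψ τ hτ
  i_t := relI_t G ψ τ hτ
  comp_i α := rel_ext G τ (by rw [relC_t, Category.assoc, Category.assoc, relE_t G ψ τ hτ, Category.comp_id])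
    (by rw [relC_s, Category.assoc, relI_s, Category.assoc, Category.assoc, relE_s G ψ τ hτ, Category.comp_id])
  i_comp α := rel_ext G τ
    (by rw [relC_t, Category.assoc, relI_t, Category.assoc, Category.assoc, relE_t G ψ τ hτ, Category.comp_id])
    (by rw [relC_s, Category.assoc, Category.assoc, relE_s G ψ τ hτ, Category.comp_id])

theorem j_relGrpd : (relGrpd G ψ τ hτ).j = τ :=
  pullback.hom_ext (pullback.lift_fst _ _ _) (pullback.lift_snd _ _ _)

end

end Groth.Agent.GrpdGen
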