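import Groth.Agent.GrpdGen.Point
import Groth.Agent.GrpdLib.Pullback
import Groth.Agent.EtFound.Descent
import Groth.Agent.FlatMisc.FiniteDense

/-!
# Finiteness of a slice spreads along the groupoid
-/

set_option autoImplicit false
set_option backward.isDefEq.respectTransparency false
set_option backward.isDefEq.respectTransparency.types false
set_option linter.style.haveILetI false
set_option linter.unusedSectionVars false

universe u

open AlgebraicGeometry CategoryTheory CategoryTheory.Limits Grpd TopologicalSpace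

namespace Groth.Agent.GrpdGen

variable {S : Scheme.{u}} (G : GroupoidScheme S)

theorem isPullback_lift_left {P R U U' : Scheme.{u}} (t : R ⟶ U) (g : U' ⟶ U) (a : P ⟶ R) (τ : P ⟶ U)
    (ha : a ≫ t = τ) :
    IsPullback (pullback.lift (pullback.fst τ g ≫ a) (pullback.snd τ g)
      (by rw [Category.assoc, ha, pullback.condition]) : pullback τ g ⟶ pullback t g)
      (pullback.fst τ g) (pullback.fst t g) a := by
  refine IsPullback.of_right ?_ (pullback.lift_fst _ _ _) (IsPullback.of_hasPullback t g).flip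
  rw [pullback.lift_snd, ha]
  exact (IsPullback.of_hasPullback τ g).flip

/-- The base changes of `srcMap` along `s` and along `t` agree over `R`. -/
theorem exists_iso_srcMap {U' : Scheme.{u}} (g : U' ⟶ G.U) :
    ∃ φ : pullback (GrpdLib.srcMap G g) G.s ≅ pullback (GrpdLib.srcMap G g) G.t,
      φ.hom ≫ pullback.snd (GrpdLib.srcMap G g) G.t = pullback.snd (GrpdLib.srcMap G g) G.s := by
  have h1 := (isPullback_lift_left G.t g G.c _ rfl).paste_vert (GrpdFld.isPullback_c G)
  have h2 := (isPullback_lift_left G.t g (pullback.fst G.s G.t) (G.c ≫ G.t) (GrpdLib.c_t G).symm).paste_vert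
    (IsPullback.of_hasPullback G.s G.t)
  show ∃ φ : pullback (pullback.fst G.t g ≫ G.s) G.s ≅ pullback (pullback.fst G.t g ≫ G.s) G.t,
    φ.hom ≫ pullback.snd (pullback.fst G.t g ≫ G.s) G.t = pullback.snd (pullback.fst G.t g ≫ G.s) G.s
  exact ⟨h1.isoPullback.symm ≪≫ h2.isoPullback, by
    rw [Iso.trans_hom, Iso.symm_hom, Category.assoc, IsPullback.isoPullback_hom_snd,
      IsPullback.isoPullback_inv_snd]⟩

theorem isFinite_snd_comp {X Y A B : Scheme.{u}} {f : X ⟶ Y} {g : B ⟶ Y} (g' : A ⟶ B)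
    (h : IsFinite (pullback.snd (pullback.snd f g) g')) : IsFinite (pullback.snd f (g' ≫ g)) := by
  rwa [← pullbackLeftPullbackSndIso_hom_snd f g g',
    MorphismProperty.cancel_left_of_respectsIso @IsFinite] at h

theorem isFinite_snd_of_comp {X Y A B : Scheme.{u}} {f : X ⟶ Y} {g : B ⟶ Y} (g' : A ⟶ B)
    (h : IsFinite (pullback.snd f (g' ≫ g))) : IsFinite (pullback.snd (pullback.snd f g) g') := by
  rwa [← pullbackLeftPullbackSndIso_hom_snd f g g', MorphismProperty.cancel_left_of_respectsIso @IsFinite]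

theorem isFinite_restrict_iff {X Y : Scheme.{u}} (f : X ⟶ Y) (V : Y.Opens) :
    IsFinite (f ∣_ V) ↔ IsFinite (pullback.snd f V.ι) :=
  MorphismProperty.cancel_left_of_respectsIso @IsFinite (pullbackRestrictIsoRestrict f V).inv _

/-- The saturation of an open. -/
def satOpen (ht : IsOpenMap G.t) (W₀ : G.U.Opens) : G.U.Opens :=
  ⟨GrpdLib.sat G W₀, ht _ (W₀.isOpen.preimage G.s.continuous)⟩

theorem isInv_satOpen (ht : IsOpenMap G.t) (W₀ : G.U.Opens) : GrpdLib.IsInv G (satOpen G ht W₀) :=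
  GrpdLib.isInv_of_mem fun r hr => (GrpdLib.mem_sat_iff G _ r).1 hr

theorem le_satOpen (ht : IsOpenMap G.t) (W₀ : G.U.Opens) : W₀ ≤ satOpen G ht W₀ := fun x hx => by
  refine ⟨G.e x, ?_, by rw [← Scheme.Hom.comp_apply, G.e_t]; rfl⟩
  show G.s (G.e x) ∈ W₀
  rw [← Scheme.Hom.comp_apply, G.e_s]
  exact hx

variable [Flat G.t] [LocallyOfFinitePresentation G.t] [QuasiCompact G.t] [IsLocallyNoetherian G.R]
  [CompactSpace G.R]

/-- A slice finite over an open is finite over its saturation. -/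
theorem isFinite_srcMap_restrict_sat {U' : Scheme.{u}} (g : U' ⟶ G.U) (W₀ : G.U.Opens)
    (h : IsFinite (GrpdLib.srcMap G g ∣_ W₀)) (ht : IsOpenMap G.t) :
    IsFinite (GrpdLib.srcMap G g ∣_ satOpen G ht W₀) := by
  rw [isFinite_restrict_iff] at h ⊢
  let W := satOpen G ht W₀
  let A : G.R.Opens := G.s ⁻¹ᵁ W₀
  let tW : A.toScheme ⟶ W.toScheme := G.t.resLE W A fun r hr => ⟨r, hr, rfl⟩
  have htW : tW ≫ W.ι = A.ι ≫ G.t := Scheme.Hom.resLE_comp_ι _ _
  have hs : (G.s ∣_ W₀) ≫ W₀.ι = A.ι ≫ G.s := morphismRestrict_ι _ _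
  obtain ⟨φ, hφ⟩ := exists_iso_srcMap G g
  have h1 : IsFinite (pullback.snd (GrpdLib.srcMap G g) (A.ι ≫ G.s)) := by
    rw [← hs]
    exact isFinite_snd_comp _ (MorphismProperty.pullback_snd (P := @IsFinite) _ _ h)
  have h2 : IsFinite (pullback.snd (GrpdLib.srcMap G g) (A.ι ≫ G.t)) := by
    refine isFinite_snd_comp _ ?_
    have h3 := isFinite_snd_of_comp _ h1
    let e := pullback.congrHom (g₁ := A.ι) hφ.symm rfl ≪≫
      asIso (pullback.map (φ.hom ≫ pullback.snd (GrpdLib.srcMap G g) G.t) A.ι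
        (pullback.snd (GrpdLib.srcMap G g) G.t) A.ι φ.hom (𝟙 _) (𝟙 _) (by simp) (by simp))
    have he : e.hom ≫ pullback.snd _ _ = pullback.snd _ _ := by simp [e]
    rwa [← he, MorphismProperty.cancel_left_of_respectsIso @IsFinite] at h3
  rw [← htW] at h2
  haveI : Surjective tW := ⟨fun x => by
    obtain ⟨r, hr, e⟩ := x.2
    exact ⟨⟨r, hr⟩, W.ι.isOpenEmbedding.injective (by
      rw [← Scheme.Hom.comp_apply, htW, Scheme.Hom.comp_apply]; exact e)⟩⟩
  haveI : Flat tW := MorphismProperty.of_postcomp (W := @Flat) (W' := @IsOpenImmersion) _ W.ι inferInstance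
    (by rw [htW]; infer_instance)
  haveI : QuasiCompact (tW ≫ W.ι) := by rw [htW]; infer_instance
  haveI : QuasiCompact tW := QuasiCompact.of_comp _ W.ι
  haveI := EtFound.fpqc_isFinite
  exact MorphismProperty.of_pullback_snd_of_descendsAlong
    (Q := (@Surjective ⊓ @Flat ⊓ @QuasiCompact : MorphismProperty Scheme.{u}))
    ⟨⟨inferInstance, inferInstance⟩, inferInstance⟩ (isFinite_snd_of_comp _ h2)

end Groth.Agent.GrpdGen
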